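import Groth.Prelude.Def_Biext
import Groth.Prelude.Def_CGrpSh
import Groth.Agent.Lib.Rigidity.Relative.AbScheme

/-!
# Rigidity of biextensions of abelian schemes

An endomorphism of a biextension inducing the identity on the base and the group is translation by a biadditive
morphism `A₁ ⊗ A₂ ⟶ A₃`, which is trivial on both axes, hence trivial by rigidity.
-/

set_option autoImplicit false

universe u

open CategoryTheory CategoryTheory.Limits AlgebraicGeometry Opposite
open MonoidalCategory CartesianMonoidalCategory MonObj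

namespace GrothLib.BiextRigid15

variable {S : Scheme.{u}} {A₁ A₂ A₃ : Over S}
  [GrpObj A₁] [IsCommMonObj A₁] [GrpObj A₂] [IsCommMonObj A₂] [GrpObj A₃] [IsCommMonObj A₃]

local notation "J₀" => QuotSh.J Scheme.fppfPrecoverage S
local notation "P₁" => CGrpSh.pts Scheme.fppfPrecoverage A₁
local notation "P₂" => CGrpSh.pts Scheme.fppfPrecoverage A₂
local notation "P₃" => CGrpSh.pts Scheme.fppfPrecoverage A₃

variable {B : Biext (QuotSh.J Scheme.fppfPrecoverage S) (CGrpSh.pts Scheme.fppfPrecoverage A₁)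
    (CGrpSh.pts Scheme.fppfPrecoverage A₂) (CGrpSh.pts Scheme.fppfPrecoverage A₃)}

/-- The point underlying a section of the sheaf of points. -/
def pt {G : Over S} [GrpObj G] [IsCommMonObj G] {T : Over S}
    (g : (CGrpSh.pts Scheme.fppfPrecoverage G).obj.obj (op T)) : T ⟶ G :=
  Additive.toMul (ULift.down g)

theorem add₁_congr {T : Over S} {x x' z z' : B.E.obj.obj (op T)} (hx : x = x') (hz : z = z')
    (h : B.πQ T x = B.πQ T z) :
    B.add₁ T x z h = B.add₁ T x' z' (hx ▸ hz ▸ h) := by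
  subst hx; subst hz; rfl

theorem add₂_congr {T : Over S} {x x' y y' : B.E.obj.obj (op T)} (hx : x = x') (hy : y = y')
    (h : B.πP T x = B.πP T y) :
    B.add₂ T x y h = B.add₂ T x' y' (hx ▸ hy ▸ h) := by
  subst hx; subst hy; rfl

variable (f : Biext.Hom (QuotSh.J Scheme.fppfPrecoverage S) B B)

theorem exists_diff (T : Over S) (x : B.E.obj.obj (op T)) :
    ∃! g : (CGrpSh.pts Scheme.fppfPrecoverage A₃).obj.obj (op T), B.act T g x = f.map T x :=
  B.existsUnique_act T x (f.map T x) (f.πP_map T x).symm (f.πQ_map T x).symm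

/-- The translation relating a section to its image. -/
noncomputable def diff (T : Over S) (x : B.E.obj.obj (op T)) :
    (CGrpSh.pts Scheme.fppfPrecoverage A₃).obj.obj (op T) :=
  Classical.choose (exists_diff f T x)

theorem act_diff (T : Over S) (x : B.E.obj.obj (op T)) : B.act T (diff f T x) x = f.map T x :=
  (Classical.choose_spec (exists_diff f T x)).1

theorem diff_eq (T : Over S) (x : B.E.obj.obj (op T))
    (g : (CGrpSh.pts Scheme.fppfPrecoverage A₃).obj.obj (op T)) (h : B.act T g x = f.map T x) :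
    g = diff f T x :=
  (exists_diff f T x).unique h (act_diff f T x)

theorem diff_map {T T' : Over S} (g : T' ⟶ T) (x : B.E.obj.obj (op T)) :
    (CGrpSh.pts Scheme.fppfPrecoverage A₃).obj.map g.op (diff f T x) =
      diff f T' (B.E.obj.map g.op x) := by
  apply diff_eq
  rw [← B.act_map, act_diff, ← f.map_res]

theorem diff_indep {T : Over S} {x y : B.E.obj.obj (op T)} (hP : B.πP T x = B.πP T y)
    (hQ : B.πQ T x = B.πQ T y) : diff f T x = diff f T y := by
  obtain ⟨g, hg, -⟩ := B.existsUnique_act T x y hP hQ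
  subst hg
  apply diff_eq
  rw [← B.add_act, add_comm, B.add_act, act_diff]
  exact (f.map_act T g x).symm

theorem diff_add₂ {T : Over S} (x y : B.E.obj.obj (op T)) (h : B.πP T x = B.πP T y) :
    diff f T (B.add₂ T x y h) = diff f T x + diff f T y := by
  refine (diff_eq f T _ _ ?_).symm
  rw [f.map_add₂, add₂_congr (act_diff f T x).symm (act_diff f T y).symm, B.add₂_act,
    B.add₂_comm T x (B.act T (diff f T y) y), B.add₂_act, B.add₂_comm T y x, B.add_act]
  all_goals first | exact h.symm | exact h.trans (B.πP_act _ _ _).symm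

theorem diff_add₁ {T : Over S} (x z : B.E.obj.obj (op T)) (h : B.πQ T x = B.πQ T z) :
    diff f T (B.add₁ T x z h) = diff f T x + diff f T z := by
  refine (diff_eq f T _ _ ?_).symm
  rw [f.map_add₁, add₁_congr (act_diff f T x).symm (act_diff f T z).symm, B.add₁_act,
    B.add₁_comm T x (B.act T (diff f T z) z), B.add₁_act, B.add₁_comm T z x, B.add_act]
  all_goals first | exact h.symm | exact h.trans (B.πQ_act _ _ _).symm

theorem diff_eq_zero_of_πQ {T : Over S} (x : B.E.obj.obj (op T)) (hq : B.πQ T x = 0) :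
    diff f T x = 0 := by
  have h := diff_indep f (x := B.add₂ T x x rfl) (y := x) (B.πP_add₂ T x x rfl)
    (by rw [B.πQ_add₂, hq, add_zero])
  rw [diff_add₂] at h
  exact add_eq_right.1 h

theorem diff_eq_zero_of_πP {T : Over S} (x : B.E.obj.obj (op T)) (hp : B.πP T x = 0) :
    diff f T x = 0 := by
  have h := diff_indep f (x := B.add₁ T x x rfl) (y := x) (by rw [B.πP_add₁, hp, add_zero])
    (B.πQ_add₁ T x x rfl)
  rw [diff_add₁] at h
  exact add_eq_right.1 h

/-- Points of a group scheme are determined locally for the fppf topology. -/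
theorem hom_ext_of_mem {T G : Over S} (R : Sieve T) (hR : R ∈ QuotSh.J Scheme.fppfPrecoverage S T)
    (a b : T ⟶ G) (h : ∀ ⦃T' : Over S⦄ (g : T' ⟶ T), R g → g ≫ a = g ≫ b) : a = b :=
  ((GrothendieckTopology.Subcanonical.isSheaf_of_isRepresentable (yoneda.obj G)).isSeparated R hR).ext h

/-- The endomorphism `f` is translation by a morphism `A₁ ⊗ A₂ ⟶ A₃`. -/
theorem exists_pairing : ∃ H : A₁ ⊗ A₂ ⟶ A₃, ∀ (T : Over S) (x : B.E.obj.obj (op T)),
    pt (diff f T x) = lift (pt (B.πP T x)) (pt (B.πQ T x)) ≫ H := by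
  obtain ⟨R, hR, hx⟩ := B.locallySurjective (A₁ ⊗ A₂) (ULift.up (Additive.ofMul (fst A₁ A₂)))
    (ULift.up (Additive.ofMul (snd A₁ A₂)))
  choose x hxP hxQ using hx
  let fam : Presieve.FamilyOfElements (yoneda.obj A₃) R.arrows :=
    fun T g hg => pt (diff f T (x g hg))
  have hfam : fam.Compatible := by
    intro Y₁ Y₂ Z g₁ g₂ h₁ h₂ hh₁ hh₂ hc
    change g₁ ≫ pt (diff f _ (x h₁ hh₁)) = g₂ ≫ pt (diff f _ (x h₂ hh₂))
    have key : diff f Z (B.E.obj.map g₁.op (x h₁ hh₁)) = diff f Z (B.E.obj.map g₂.op (x h₂ hh₂)) := by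
      refine diff_indep f ?_ ?_
      · rw [B.πP_map, B.πP_map, hxP, hxP]
        apply ULift.ext
        exact congrArg Additive.ofMul (by
          change g₁ ≫ h₁ ≫ fst A₁ A₂ = g₂ ≫ _ ≫ fst A₁ A₂
          rw [reassoc_of% hc]; rfl)
      · rw [B.πQ_map, B.πQ_map, hxQ, hxQ]
        apply ULift.ext
        exact congrArg Additive.ofMul (by
          change g₁ ≫ h₁ ≫ snd A₁ A₂ = g₂ ≫ _ ≫ snd A₁ A₂
          rw [reassoc_of% hc]; rfl)
    rw [← diff_map, ← diff_map] at key
    exact congrArg pt key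
  obtain ⟨H, hH, -⟩ := GrothendieckTopology.Subcanonical.isSheaf_of_isRepresentable
    (yoneda.obj A₃) R hR fam hfam
  refine ⟨H, fun T y => hom_ext_of_mem _ (GrothendieckTopology.pullback_stable _
    (lift (pt (B.πP T y)) (pt (B.πQ T y))) hR) _ _ ?_⟩
  intro T' g hg
  have h' := hH (g ≫ lift (pt (B.πP T y)) (pt (B.πQ T y))) hg
  change (g ≫ lift (pt (B.πP T y)) (pt (B.πQ T y))) ≫ H = pt (diff f T' (x _ hg)) at h'
  rw [← Category.assoc, h']
  change pt ((CGrpSh.pts Scheme.fppfPrecoverage A₃).obj.map g.op (diff f T y)) = _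
  rw [diff_map]
  refine congrArg pt (diff_indep f ?_ ?_)
  · rw [B.πP_map, hxP]
    apply ULift.ext
    exact congrArg Additive.ofMul (by
      change g ≫ pt (B.πP T y) = (g ≫ lift (pt (B.πP T y)) (pt (B.πQ T y))) ≫ fst A₁ A₂
      rw [Category.assoc, lift_fst])
  · rw [B.πQ_map, hxQ]
    apply ULift.ext
    exact congrArg Additive.ofMul (by
      change g ≫ pt (B.πQ T y) = (g ≫ lift (pt (B.πP T y)) (pt (B.πQ T y))) ≫ snd A₁ A₂
      rw [Category.assoc, lift_snd])

/-- Rigidity of biextensions of abelian schemes. -/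
theorem hom_eq_id [Smooth A₁.hom] [IsProper A₁.hom] (hA₁ : ∀ s : S, ConnectedSpace ↥(A₁.hom.fiber s))
    [Smooth A₂.hom] (hA₂ : ∀ s : S, ConnectedSpace ↥(A₂.hom.fiber s)) [IsSeparated A₃.hom] :
    f = Biext.HomOver.id (QuotSh.J Scheme.fppfPrecoverage S) B := by
  obtain ⟨H, hH⟩ := exists_pairing f
  have := GrothLib.Rigidity.geometricallyConnected_of_connected_fibers A₁ hA₁
  have := GrothLib.Rigidity.geometricallyConnected_of_connected_fibers A₂ hA₂
  have := GrothLib.Rigidity.geometricallyReduced_of_smooth' A₁.hom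
  have hl : lift (𝟙 A₁) (toUnit A₁ ≫ η[A₂]) ≫ H = 1 := by
    obtain ⟨R, hR, hx⟩ := B.locallySurjective A₁ (ULift.up (Additive.ofMul (𝟙 A₁))) 0
    refine hom_ext_of_mem R hR _ _ fun T g hg => ?_
    obtain ⟨x, hp, hq⟩ := hx g hg
    rw [map_zero] at hq
    have h := hH T x
    rw [diff_eq_zero_of_πQ f x hq, hp, hq] at h
    change (1 : T ⟶ A₃) = lift (g ≫ 𝟙 A₁) (1 : T ⟶ A₂) ≫ H at h
    rw [MonObj.comp_one, h, ← Category.assoc, comp_lift, GrothLib.Rigidity.toUnit_comp_one',
      MonObj.comp_one]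
  have hr : lift (toUnit A₂ ≫ η[A₁]) (𝟙 A₂) ≫ H = 1 := by
    obtain ⟨R, hR, hx⟩ := B.locallySurjective A₂ 0 (ULift.up (Additive.ofMul (𝟙 A₂)))
    refine hom_ext_of_mem R hR _ _ fun T g hg => ?_
    obtain ⟨x, hp, hq⟩ := hx g hg
    rw [map_zero] at hp
    have h := hH T x
    rw [diff_eq_zero_of_πP f x hp, hp, hq] at h
    change (1 : T ⟶ A₃) = lift (1 : T ⟶ A₁) (g ≫ 𝟙 A₂) ≫ H at h
    rw [MonObj.comp_one, h, ← Category.assoc, comp_lift, GrothLib.Rigidity.toUnit_comp_one',
      MonObj.comp_one]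
  have h0 : lift η[A₁] η[A₂] ≫ H = η[A₃] := by
    have h := congrArg (fun t => η[A₁] ≫ t) hl
    simp only [MonObj.comp_one, ← Category.assoc, comp_lift, Category.comp_id] at h
    rw [Subsingleton.elim (η[A₁] ≫ toUnit A₁) (𝟙 _), Category.id_comp] at h
    rw [h, Hom.one_def, toUnit_unit, Category.id_comp]
  have hH1 : H = 1 := by
    rw [GrothLib.Rigidity.eq_mul_of_slices' H η[A₁] η[A₂] h0, hl, hr, MonObj.comp_one,
      MonObj.comp_one, _root_.mul_one]
  refine Biext.HomOver.ext' _ fun T x => ?_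
  have h := hH T x
  rw [hH1, MonObj.comp_one] at h
  rw [← act_diff f T x, show diff f T x = 0 from ULift.ext _ _ h, B.zero_act]
  rfl

end GrothLib.BiextRigid15
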