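import Groth.Prelude.Def_Biext
import Mathlib.CategoryTheory.Sites.LocallySurjective
import Mathlib.CategoryTheory.Sites.Abelian
import Mathlib.Algebra.Category.Grp.Abelian
import Mathlib.Algebra.Category.Grp.Preadditive
import Mathlib.Algebra.Category.Grp.FilteredColimits

/-!
# Biextensions which become trivial after multiplication by integers on divisible sheaves
-/

set_option autoImplicit false

universe u

open CategoryTheory Opposite

namespace GrothLib.BiextRigid15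

variable {C : Type (u + 1)} [Category.{u} C] {J : GrothendieckTopology C}
  {P Q G : Sheaf J AddCommGrpCat.{u + 1}}

theorem zsmul_id_app (n : ℤ) (T : Cᵒᵖ) (x : P.obj.obj T) :
    (n • 𝟙 P : P ⟶ P).hom.app T x = n • x :=
  map_zsmul (AddMonoidHom.mk' (fun f : P ⟶ P => f.hom.app T x) fun _ _ => rfl) n (𝟙 P)

theorem sheaf_ext {A : Sheaf J AddCommGrpCat.{u + 1}} {T : C} {R : Sieve T} (hR : R ∈ J T)
    {a b : A.obj.obj (op T)}
    (h : ∀ ⦃T' : C⦄ (g : T' ⟶ T), R g → A.obj.map g.op a = A.obj.map g.op b) : a = b :=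
  (((isSheaf_iff_isSheaf_of_type _ _).1 (Biext.uSh J A).property).isSeparated R hR).ext h

theorem exists_div (n : ℤ) (h : Sheaf.IsLocallySurjective (n • 𝟙 P : P ⟶ P)) (T : C)
    (p : P.obj.obj (op T)) :
    ∃ R ∈ J T, ∀ ⦃T' : C⦄ (g : T' ⟶ T), R g → ∃ p', n • p' = P.obj.map g.op p := by
  haveI : Presheaf.IsLocallySurjective J (n • 𝟙 P : P ⟶ P).hom := h
  refine ⟨_, Presheaf.imageSieve_mem J (n • 𝟙 P : P ⟶ P).hom p, ?_⟩
  rintro T' g ⟨t, ht⟩
  exact ⟨t, (zsmul_id_app n _ t).symm.trans ht⟩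

variable {B B' : Biext J P Q G}

theorem ext_of_mem {T : C} {R : Sieve T} (hR : R ∈ J T) {a b : B.E.obj.obj (op T)}
    (h : ∀ ⦃T' : C⦄ (g : T' ⟶ T), R g → B.E.obj.map g.op a = B.E.obj.map g.op b) : a = b :=
  (((isSheaf_iff_isSheaf_of_type _ _).1 B.E.property).isSeparated R hR).ext h

theorem add₁_congr' {T : C} {x x' z z' : B.E.obj.obj (op T)} (hx : x = x') (hz : z = z')
    (h : B.πQ T x = B.πQ T z) :
    B.add₁ T x z h = B.add₁ T x' z' (hx ▸ hz ▸ h) := by
  subst hx; subst hz; rfl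

theorem add₂_congr' {T : C} {x x' y y' : B.E.obj.obj (op T)} (hx : x = x') (hy : y = y')
    (h : B.πP T x = B.πP T y) :
    B.add₂ T x y h = B.add₂ T x' y' (hx ▸ hy ▸ h) := by
  subst hx; subst hy; rfl

variable {n m : ℤ} (φ : Biext.HomOver J (n • 𝟙 P) (m • 𝟙 Q) (𝟙 G) B' B) (s : Biext.Splitting J B')

/-- The section of `B` above `(n p, m q)` given by the splitting of `B'`. -/
def sec (T : C) (p : P.obj.obj (op T)) (q : Q.obj.obj (op T)) : B.E.obj.obj (op T) :=
  φ.map T (s.σ T p q)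

theorem πP_sec (T : C) (p : P.obj.obj (op T)) (q : Q.obj.obj (op T)) :
    B.πP T (sec φ s T p q) = n • p := by
  rw [sec, φ.πP_map, s.πP_σ, zsmul_id_app]

theorem πQ_sec (T : C) (p : P.obj.obj (op T)) (q : Q.obj.obj (op T)) :
    B.πQ T (sec φ s T p q) = m • q := by
  rw [sec, φ.πQ_map, s.πQ_σ, zsmul_id_app]

theorem sec_map {T T' : C} (g : T' ⟶ T) (p : P.obj.obj (op T)) (q : Q.obj.obj (op T)) :
    B.E.obj.map g.op (sec φ s T p q) = sec φ s T' (P.obj.map g.op p) (Q.obj.map g.op q) := by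
  rw [sec, sec, ← φ.map_res, s.σ_map]

theorem sec_add₁ (T : C) (p p' : P.obj.obj (op T)) (q : Q.obj.obj (op T)) :
    sec φ s T (p + p') q = B.add₁ T (sec φ s T p q) (sec φ s T p' q)
      ((πQ_sec φ s T p q).trans (πQ_sec φ s T p' q).symm) := by
  simp only [sec]
  rw [s.σ_add₁, φ.map_add₁]

theorem sec_add₂ (T : C) (p : P.obj.obj (op T)) (q q' : Q.obj.obj (op T)) :
    sec φ s T p (q + q') = B.add₂ T (sec φ s T p q) (sec φ s T p q')
      ((πP_sec φ s T p q).trans (πP_sec φ s T p q').symm) := by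
  simp only [sec]
  rw [s.σ_add₂, φ.map_add₂]

theorem sec_indep_left (hn : n ≠ 0) (hQ : Sheaf.IsLocallySurjective (n • 𝟙 Q : Q ⟶ Q)) (T : C)
    (p₀ : P.obj.obj (op T)) (hp : n • p₀ = 0) (q : Q.obj.obj (op T)) :
    sec φ s T p₀ q = sec φ s T 0 q := by
  have _ := hn
  have hex : ∀ (T : C) (p₀ : P.obj.obj (op T)) (q : Q.obj.obj (op T)), n • p₀ = 0 →
      ∃! c, B.act T c (sec φ s T 0 q) = sec φ s T p₀ q := fun T p₀ q h =>
    B.existsUnique_act T _ _ (by rw [πP_sec, πP_sec, h, smul_zero]) (by rw [πQ_sec, πQ_sec])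
  let c : ∀ (T : C) (p₀ : P.obj.obj (op T)) (q : Q.obj.obj (op T)), n • p₀ = 0 → G.obj.obj (op T) :=
    fun T p₀ q h => Classical.choose (hex T p₀ q h)
  have hc : ∀ T p₀ q (h : n • p₀ = 0), B.act T (c T p₀ q h) (sec φ s T 0 q) = sec φ s T p₀ q :=
    fun T p₀ q h => (Classical.choose_spec (hex T p₀ q h)).1
  have huniq : ∀ T p₀ q (h : n • p₀ = 0) (a : G.obj.obj (op T)),
      B.act T a (sec φ s T 0 q) = sec φ s T p₀ q → a = c T p₀ q h :=
    fun T p₀ q h a ha => (hex T p₀ q h).unique ha (hc T p₀ q h)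
  -- additivity in `q`
  let cQ : ∀ (T : C) (p₀ : P.obj.obj (op T)), n • p₀ = 0 → (Q.obj.obj (op T) →+ G.obj.obj (op T)) :=
    fun T p₀ h => AddMonoidHom.mk' (fun q => c T p₀ q h) fun q q' => by
      refine (huniq _ _ _ h _ ?_).symm
      rw [sec_add₂, sec_add₂, add₂_congr' (hc T p₀ q h).symm (hc T p₀ q' h).symm, B.add₂_act,
        B.add₂_comm T _ (B.act T (c T p₀ q' h) (sec φ s T 0 q')), B.add₂_act,
        B.add₂_comm T (sec φ s T 0 q') (sec φ s T 0 q), B.add_act]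
      all_goals simp only [B.πP_act, B.πQ_act, πP_sec, πQ_sec]
  -- additivity in `p₀`
  have hcP : ∀ (T : C) (p₀ : P.obj.obj (op T)) (q : Q.obj.obj (op T)) (h : n • p₀ = 0),
      n • c T p₀ q h = 0 := by
    intro T p₀ q h
    let K : AddSubgroup (P.obj.obj (op T)) := (zsmulAddGroupHom n).ker
    let cP : K →+ G.obj.obj (op T) := AddMonoidHom.mk' (fun a => c T a.1 q a.2) fun a b => by
      refine (huniq _ _ _ (a + b).2 _ ?_).symm
      change _ = sec φ s T ((a : P.obj.obj (op T)) + b) q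
      rw [sec_add₁, add₁_congr' (hc T a.1 q a.2).symm (hc T b.1 q b.2).symm, B.add₁_act,
        B.add₁_comm T _ (B.act T (c T b.1 q b.2) (sec φ s T 0 q)), B.add₁_act, B.add_act,
        ← sec_add₁, add_zero]
      all_goals simp only [B.πP_act, B.πQ_act, πP_sec, πQ_sec]
    change n • cP ⟨p₀, h⟩ = 0
    rw [← map_zsmul, show n • (⟨p₀, h⟩ : K) = 0 from Subtype.ext h, map_zero]
  obtain ⟨R, hR, hdiv⟩ := exists_div n hQ T q
  have hzero : c T p₀ q hp = 0 := by
    refine sheaf_ext hR fun T' g hg => ?_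
    obtain ⟨q', hq'⟩ := hdiv g hg
    have hp' : n • P.obj.map g.op p₀ = 0 := by rw [← map_zsmul, hp, map_zero]
    rw [map_zero, show G.obj.map g.op (c T p₀ q hp) = c T' (P.obj.map g.op p₀) (Q.obj.map g.op q) hp' by
      refine huniq _ _ _ hp' _ ?_
      have hm := congrArg (fun x => B.E.obj.map g.op x) (hc T p₀ q hp)
      simp only [B.act_map, sec_map, map_zero] at hm
      exact hm]
    change cQ T' _ hp' (Q.obj.map g.op q) = 0
    rw [← hq', map_zsmul]
    exact hcP T' _ q' hp'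
  have h := hc T p₀ q hp
  rw [hzero, B.zero_act] at h
  exact h.symm

theorem sec_indep_right (hm : m ≠ 0) (hP : Sheaf.IsLocallySurjective (m • 𝟙 P : P ⟶ P)) (T : C)
    (p : P.obj.obj (op T)) (q₀ : Q.obj.obj (op T)) (hq : m • q₀ = 0) :
    sec φ s T p q₀ = sec φ s T p 0 := by
  have _ := hm
  have hex : ∀ (T : C) (p : P.obj.obj (op T)) (q₀ : Q.obj.obj (op T)), m • q₀ = 0 →
      ∃! c, B.act T c (sec φ s T p 0) = sec φ s T p q₀ := fun T p q₀ h =>
    B.existsUnique_act T _ _ (by rw [πP_sec, πP_sec]) (by rw [πQ_sec, πQ_sec, h, smul_zero])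
  let c : ∀ (T : C) (p : P.obj.obj (op T)) (q₀ : Q.obj.obj (op T)), m • q₀ = 0 → G.obj.obj (op T) :=
    fun T p q₀ h => Classical.choose (hex T p q₀ h)
  have hc : ∀ T p q₀ (h : m • q₀ = 0), B.act T (c T p q₀ h) (sec φ s T p 0) = sec φ s T p q₀ :=
    fun T p q₀ h => (Classical.choose_spec (hex T p q₀ h)).1
  have huniq : ∀ T p q₀ (h : m • q₀ = 0) (a : G.obj.obj (op T)),
      B.act T a (sec φ s T p 0) = sec φ s T p q₀ → a = c T p q₀ h :=
    fun T p q₀ h a ha => (hex T p q₀ h).unique ha (hc T p q₀ h)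
  let cP : ∀ (T : C) (q₀ : Q.obj.obj (op T)), m • q₀ = 0 → (P.obj.obj (op T) →+ G.obj.obj (op T)) :=
    fun T q₀ h => AddMonoidHom.mk' (fun p => c T p q₀ h) fun p p' => by
      refine (huniq _ _ _ h _ ?_).symm
      rw [sec_add₁, sec_add₁, add₁_congr' (hc T p q₀ h).symm (hc T p' q₀ h).symm, B.add₁_act,
        B.add₁_comm T _ (B.act T (c T p' q₀ h) (sec φ s T p' 0)), B.add₁_act,
        B.add₁_comm T (sec φ s T p' 0) (sec φ s T p 0), B.add_act]
      all_goals simp only [B.πP_act, B.πQ_act, πP_sec, πQ_sec]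
  have hcQ : ∀ (T : C) (p : P.obj.obj (op T)) (q₀ : Q.obj.obj (op T)) (h : m • q₀ = 0),
      m • c T p q₀ h = 0 := by
    intro T p q₀ h
    let K : AddSubgroup (Q.obj.obj (op T)) := (zsmulAddGroupHom m).ker
    let cQ : K →+ G.obj.obj (op T) := AddMonoidHom.mk' (fun a => c T p a.1 a.2) fun a b => by
      refine (huniq _ _ _ (a + b).2 _ ?_).symm
      change _ = sec φ s T p ((a : Q.obj.obj (op T)) + b)
      rw [sec_add₂, add₂_congr' (hc T p a.1 a.2).symm (hc T p b.1 b.2).symm, B.add₂_act,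
        B.add₂_comm T _ (B.act T (c T p b.1 b.2) (sec φ s T p 0)), B.add₂_act, B.add_act,
        ← sec_add₂, add_zero]
      all_goals simp only [B.πP_act, B.πQ_act, πP_sec, πQ_sec]
    change m • cQ ⟨q₀, h⟩ = 0
    rw [← map_zsmul, show m • (⟨q₀, h⟩ : K) = 0 from Subtype.ext h, map_zero]
  obtain ⟨R, hR, hdiv⟩ := exists_div m hP T p
  have hzero : c T p q₀ hq = 0 := by
    refine sheaf_ext hR fun T' g hg => ?_
    obtain ⟨p', hp'⟩ := hdiv g hg
    have hq' : m • Q.obj.map g.op q₀ = 0 := by rw [← map_zsmul, hq, map_zero]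
    rw [map_zero, show G.obj.map g.op (c T p q₀ hq) = c T' (P.obj.map g.op p) (Q.obj.map g.op q₀) hq' by
      refine huniq _ _ _ hq' _ ?_
      have hm' := congrArg (fun x => B.E.obj.map g.op x) (hc T p q₀ hq)
      simp only [B.act_map, sec_map, map_zero] at hm'
      exact hm']
    change cP T' _ hq' (P.obj.map g.op p) = 0
    rw [← hp', map_zsmul]
    exact hcQ T' p' _ hq'
  have h := hc T p q₀ hq
  rw [hzero, B.zero_act] at h
  exact h.symm

/-- A biextension of divisible sheaves whose inverse image by `(n, m)` is trivial is trivial. -/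
theorem isTrivial_of_divisible (hn : n ≠ 0) (hm : m ≠ 0)
    (hPn : Sheaf.IsLocallySurjective (n • 𝟙 P : P ⟶ P)) (hPm : Sheaf.IsLocallySurjective (m • 𝟙 P : P ⟶ P))
    (hQn : Sheaf.IsLocallySurjective (n • 𝟙 Q : Q ⟶ Q)) (hQm : Sheaf.IsLocallySurjective (m • 𝟙 Q : Q ⟶ Q))
    (φ : Biext.HomOver J (n • 𝟙 P) (m • 𝟙 Q) (𝟙 G) B' B) (hB' : Biext.IsTrivial J B') :
    Biext.IsTrivial J B := by
  obtain ⟨s⟩ := hB'
  have indep : ∀ (T : C) (p p' : P.obj.obj (op T)) (q q' : Q.obj.obj (op T)), n • p = n • p' →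
      m • q = m • q' → sec φ s T p q = sec φ s T p' q' := by
    intro T p p' q q' hp hq
    have e1 : sec φ s T p q = sec φ s T p' q := by
      conv_lhs => rw [← add_sub_cancel p' p]
      rw [sec_add₁, add₁_congr' rfl (sec_indep_left φ s hn hQn T (p - p') (by rw [zsmul_sub, hp, sub_self]) q),
        ← sec_add₁, add_zero]
    have e2 : sec φ s T p' q = sec φ s T p' q' := by
      conv_lhs => rw [← add_sub_cancel q' q]
      rw [sec_add₂, add₂_congr' rfl (sec_indep_right φ s hm hPm T p' (q - q') (by rw [zsmul_sub, hq, sub_self])),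
        ← sec_add₂, add_zero]
    exact e1.trans e2
  have glue : ∀ (T : C) (a : P.obj.obj (op T)) (b : Q.obj.obj (op T)), ∃ x : B.E.obj.obj (op T),
      ∀ ⦃T' : C⦄ (g : T' ⟶ T) (p : P.obj.obj (op T')) (q : Q.obj.obj (op T')),
        n • p = P.obj.map g.op a → m • q = Q.obj.map g.op b → B.E.obj.map g.op x = sec φ s T' p q := by
    intro T a b
    obtain ⟨R₁, hR₁, h₁⟩ := exists_div n hPn T a
    obtain ⟨R₂, hR₂, h₂⟩ := exists_div m hQm T b
    have h₁' : ∀ ⦃T' : C⦄ (g : T' ⟶ T), (R₁ ⊓ R₂).arrows g → ∃ p', n • p' = P.obj.map g.op a :=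
      fun T' g hg => h₁ g hg.1
    have h₂' : ∀ ⦃T' : C⦄ (g : T' ⟶ T), (R₁ ⊓ R₂).arrows g → ∃ q', m • q' = Q.obj.map g.op b :=
      fun T' g hg => h₂ g hg.2
    choose p hp using h₁'
    choose q hq using h₂'
    let fam : Presieve.FamilyOfElements B.E.obj (R₁ ⊓ R₂).arrows :=
      fun T' g hg => sec φ s T' (p g hg) (q g hg)
    have hfam : fam.Compatible := by
      intro Y₁ Y₂ Z g₁ g₂ f₁ f₂ hf₁ hf₂ hc
      change B.E.obj.map g₁.op (sec φ s _ _ _) = B.E.obj.map g₂.op (sec φ s _ _ _)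
      rw [sec_map, sec_map]
      refine indep _ _ _ _ _ ?_ ?_
      · rw [← map_zsmul, ← map_zsmul, hp, hp, ← ConcreteCategory.comp_apply,
          ← ConcreteCategory.comp_apply, ← Functor.map_comp, ← Functor.map_comp, ← op_comp, ← op_comp, hc]
      · rw [← map_zsmul, ← map_zsmul, hq, hq, ← ConcreteCategory.comp_apply,
          ← ConcreteCategory.comp_apply, ← Functor.map_comp, ← Functor.map_comp, ← op_comp, ← op_comp, hc]
    obtain ⟨x, hx, -⟩ := (isSheaf_iff_isSheaf_of_type _ _).1 B.E.property _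
      (J.intersection_covering hR₁ hR₂) fam hfam
    refine ⟨x, fun T' g p' q' hp' hq' => ?_⟩
    refine ext_of_mem (J.pullback_stable g (J.intersection_covering hR₁ hR₂)) fun T'' h hh => ?_
    have e := hx (h ≫ g) hh
    change B.E.obj.map (h ≫ g).op x = _ at e
    rw [← ConcreteCategory.comp_apply, ← Functor.map_comp, ← op_comp, e, sec_map]
    refine indep _ _ _ _ _ ?_ ?_
    · rw [hp, ← map_zsmul, hp', op_comp, Functor.map_comp, ConcreteCategory.comp_apply]
    · rw [hq, ← map_zsmul, hq', op_comp, Functor.map_comp, ConcreteCategory.comp_apply]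
  choose σ hσ using glue
  refine ⟨{ σ := σ, πP_σ := ?_, πQ_σ := ?_, σ_map := ?_, σ_add₁ := ?_, σ_add₂ := ?_ }⟩
  · intro T a b
    obtain ⟨R₁, hR₁, h₁⟩ := exists_div n hPn T a
    obtain ⟨R₂, hR₂, h₂⟩ := exists_div m hQm T b
    refine sheaf_ext (J.intersection_covering hR₁ hR₂) fun T' g hg => ?_
    obtain ⟨p, hp⟩ := h₁ g hg.1
    obtain ⟨q, hq⟩ := h₂ g hg.2
    rw [← B.πP_map, hσ T a b g p q hp hq, πP_sec, hp]
  · intro T a b
    obtain ⟨R₁, hR₁, h₁⟩ := exists_div n hPn T a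
    obtain ⟨R₂, hR₂, h₂⟩ := exists_div m hQm T b
    refine sheaf_ext (J.intersection_covering hR₁ hR₂) fun T' g hg => ?_
    obtain ⟨p, hp⟩ := h₁ g hg.1
    obtain ⟨q, hq⟩ := h₂ g hg.2
    rw [← B.πQ_map, hσ T a b g p q hp hq, πQ_sec, hq]
  · intro T T₁ f a b
    obtain ⟨R₁, hR₁, h₁⟩ := exists_div n hPn T₁ (P.obj.map f.op a)
    obtain ⟨R₂, hR₂, h₂⟩ := exists_div m hQm T₁ (Q.obj.map f.op b)
    refine ext_of_mem (J.intersection_covering hR₁ hR₂) fun T' g hg => ?_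
    obtain ⟨p, hp⟩ := h₁ g hg.1
    obtain ⟨q, hq⟩ := h₂ g hg.2
    rw [hσ T₁ _ _ g p q hp hq, ← ConcreteCategory.comp_apply, ← Functor.map_comp, ← op_comp]
    exact hσ T a b (g ≫ f) p q
      (by rw [hp, op_comp, Functor.map_comp, ConcreteCategory.comp_apply])
      (by rw [hq, op_comp, Functor.map_comp, ConcreteCategory.comp_apply])
  · intro T a a' b
    obtain ⟨R₁, hR₁, h₁⟩ := exists_div n hPn T a
    obtain ⟨R₁', hR₁', h₁'⟩ := exists_div n hPn T a'
    obtain ⟨R₂, hR₂, h₂⟩ := exists_div m hQm T b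
    refine ext_of_mem (J.intersection_covering hR₁ (J.intersection_covering hR₁' hR₂)) fun T' g hg => ?_
    obtain ⟨p, hp⟩ := h₁ g hg.1
    obtain ⟨p', hp'⟩ := h₁' g hg.2.1
    obtain ⟨q, hq⟩ := h₂ g hg.2.2
    rw [hσ T _ b g (p + p') q (by rw [zsmul_add, hp, hp', map_add]) hq, B.add₁_map,
      add₁_congr' (hσ T a b g p q hp hq) (hσ T a' b g p' q hp' hq)]
    exact sec_add₁ φ s T' p p' q
  · intro T a b b'
    obtain ⟨R₁, hR₁, h₁⟩ := exists_div n hPn T a
    obtain ⟨R₂, hR₂, h₂⟩ := exists_div m hQm T b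
    obtain ⟨R₂', hR₂', h₂'⟩ := exists_div m hQm T b'
    refine ext_of_mem (J.intersection_covering hR₁ (J.intersection_covering hR₂ hR₂')) fun T' g hg => ?_
    obtain ⟨p, hp⟩ := h₁ g hg.1
    obtain ⟨q, hq⟩ := h₂ g hg.2.1
    obtain ⟨q', hq'⟩ := h₂' g hg.2.2
    rw [hσ T a _ g p (q + q') hp (by rw [zsmul_add, hq, hq', map_add]), B.add₂_map,
      add₂_congr' (hσ T a b g p q hp hq) (hσ T a b' g p q' hp hq')]
    exact sec_add₂ φ s T' p q q'

end GrothLib.BiextRigid15
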