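import Groth.Agent.Lib.BiextRigid15.Divisible
import Mathlib.CategoryTheory.Sites.EpiMono
import Mathlib.CategoryTheory.Sites.Sheafification
import Mathlib.GroupTheory.QuotientGroup.Defs
import Mathlib.Data.Finsupp.Basic
import Mathlib.Algebra.Category.Grp.EpiMono

/-!
# The group structures on the fibres of a biextension and the universal linearisation of its second law

`linSh B` is an abelian sheaf containing `G`, with a map `lam` from the sections of `B` which is equivariant
and additive for the second law.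
-/

set_option autoImplicit false

universe u

open CategoryTheory Opposite

namespace GrothLib.BiextRigid15

variable {C : Type (u + 1)} [Category.{u} C] {J : GrothendieckTopology C}
  {P Q G : Sheaf J AddCommGrpCat.{u + 1}} (B : Biext J P Q G)

theorem map_map (A : Cᵒᵖ ⥤ AddCommGrpCat.{u + 1}) {T T' T'' : C} (g : T' ⟶ T) (h : T'' ⟶ T') (a : A.obj (op T)) :
    A.map h.op (A.map g.op a) = A.map (h ≫ g).op a := by
  rw [op_comp, A.map_comp]
  rfl

theorem map_map_type (A : Cᵒᵖ ⥤ Type (u + 1)) {T T' T'' : C} (g : T' ⟶ T) (h : T'' ⟶ T') (a : A.obj (op T)) :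
    A.map h.op (A.map g.op a) = A.map (h ≫ g).op a := by
  rw [op_comp, A.map_comp]
  rfl

theorem map_id_apply (A : Cᵒᵖ ⥤ AddCommGrpCat.{u + 1}) {T : C} (a : A.obj (op T)) :
    A.map (𝟙 T).op a = a := by
  rw [op_id, A.map_id]
  rfl

/-- Gluing of sections of `B` characterised by a predicate which has at most one solution. -/
theorem exists_glue (T : C) (Rel : ∀ ⦃T' : C⦄, (T' ⟶ T) → B.E.obj.obj (op T') → Prop)
    (hres : ∀ ⦃T' T'' : C⦄ (g : T' ⟶ T) (h : T'' ⟶ T') (x : B.E.obj.obj (op T')),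
      Rel g x → Rel (h ≫ g) (B.E.obj.map h.op x))
    (huniq : ∀ ⦃T' : C⦄ (g : T' ⟶ T) (x y : B.E.obj.obj (op T')), Rel g x → Rel g y → x = y)
    (hex : ∃ R ∈ J T, ∀ ⦃T' : C⦄ (g : T' ⟶ T), R g → ∃ x, Rel g x) :
    ∃ x : B.E.obj.obj (op T), ∃ R ∈ J T, ∀ ⦃T' : C⦄ (g : T' ⟶ T), R g → Rel g (B.E.obj.map g.op x) := by
  obtain ⟨R, hR, hx⟩ := hex
  choose x hx using hx
  let fam : Presieve.FamilyOfElements B.E.obj R.arrows := fun T' g hg => x g hg
  have hfam : fam.Compatible := by
    intro Y₁ Y₂ Z g₁ g₂ f₁ f₂ h₁ h₂ hc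
    refine huniq _ _ _ (hres _ g₁ _ (hx f₁ h₁)) ?_
    rw [hc]
    exact hres _ g₂ _ (hx f₂ h₂)
  obtain ⟨a, ha, -⟩ := (isSheaf_iff_isSheaf_of_type _ _).1 B.E.property _ hR fam hfam
  exact ⟨a, R, hR, fun T' g hg => by rw [ha g hg]; exact hx g hg⟩

/-- The fibre of `B` over `p`. -/
abbrev Fib (T : C) (p : P.obj.obj (op T)) : Type (u + 1) := {x : B.E.obj.obj (op T) // B.πP T x = p}

theorem eq_of_add₂_self {T : C} {x y : B.E.obj.obj (op T)} (hP : B.πP T x = B.πP T y)
    (hQ : B.πQ T x = B.πQ T y) (hx : B.add₂ T x x rfl = x) (hy : B.add₂ T y y rfl = y) : x = y := by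
  obtain ⟨g, hg, -⟩ := B.existsUnique_act T x y hP hQ
  subst hg
  have h1 : B.act T (g + g) x = B.act T g x := by
    conv_rhs => rw [← hy]
    rw [B.add₂_act, B.add₂_comm T x (B.act T g x), B.add₂_act, hx, B.add_act]
    all_goals simp only [B.πP_act]
  have h2 := (B.existsUnique_act T x (B.act T g x) (B.πP_act T g x).symm (B.πQ_act T g x).symm).unique h1 rfl
  rw [add_eq_right.1 h2, B.zero_act]

theorem exists_unit (T : C) (p : P.obj.obj (op T)) :
    ∃ e : B.E.obj.obj (op T), B.πP T e = p ∧ B.πQ T e = 0 ∧ B.add₂ T e e rfl = e := by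
  obtain ⟨R, hR, hx⟩ := B.locallySurjective T p 0
  obtain ⟨e, R', hR', he⟩ := exists_glue B T
    (fun T' g x => B.πP T' x = P.obj.map g.op p ∧ B.πQ T' x = 0 ∧ B.add₂ T' x x rfl = x)
    (fun T' T'' g h x hx => ⟨by rw [B.πP_map, hx.1, map_map], by rw [B.πQ_map, hx.2.1, map_zero],
      by rw [← B.add₂_map h x x rfl, hx.2.2]⟩)
    (fun T' g x y hx hy => eq_of_add₂_self B (hx.1.trans hy.1.symm) (hx.2.1.trans hy.2.1.symm) hx.2.2 hy.2.2)
    ⟨R, hR, fun T' g hg => by
      obtain ⟨x, hp, hq⟩ := hx g hg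
      rw [map_zero] at hq
      obtain ⟨c, hc, -⟩ := B.existsUnique_act T' x (B.add₂ T' x x rfl) (B.πP_add₂ T' x x rfl).symm
        (by rw [B.πQ_add₂, hq, add_zero])
      refine ⟨B.act T' (-c) x, by rw [B.πP_act, hp], by rw [B.πQ_act, hq], ?_⟩
      rw [B.add₂_act, B.add₂_comm T' x (B.act T' (-c) x), B.add₂_act, ← hc, ← B.add_act, ← B.add_act,
        neg_add_cancel_right]
      all_goals simp only [B.πP_act]⟩
  exact ⟨e, sheaf_ext hR' fun T' g hg => by rw [← B.πP_map]; exact (he g hg).1,
    sheaf_ext hR' fun T' g hg => by rw [← B.πQ_map, map_zero]; exact (he g hg).2.1,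
    ext_of_mem hR' fun T' g hg => by rw [B.add₂_map]; exact (he g hg).2.2⟩

/-- The unit section of the second law above `p`. -/
noncomputable def unitSec (T : C) (p : P.obj.obj (op T)) : B.E.obj.obj (op T) :=
  Classical.choose (exists_unit B T p)

theorem πP_unitSec (T : C) (p : P.obj.obj (op T)) : B.πP T (unitSec B T p) = p :=
  (Classical.choose_spec (exists_unit B T p)).1

theorem πQ_unitSec (T : C) (p : P.obj.obj (op T)) : B.πQ T (unitSec B T p) = 0 :=
  (Classical.choose_spec (exists_unit B T p)).2.1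

theorem add₂_unitSec_self (T : C) (p : P.obj.obj (op T)) :
    B.add₂ T (unitSec B T p) (unitSec B T p) rfl = unitSec B T p :=
  (Classical.choose_spec (exists_unit B T p)).2.2

theorem unitSec_map {T T' : C} (g : T' ⟶ T) (p : P.obj.obj (op T)) :
    B.E.obj.map g.op (unitSec B T p) = unitSec B T' (P.obj.map g.op p) := by
  refine eq_of_add₂_self B ?_ ?_ ?_ (add₂_unitSec_self B _ _)
  · rw [B.πP_map, πP_unitSec, πP_unitSec]
  · rw [B.πQ_map, πQ_unitSec, πQ_unitSec, map_zero]
  · rw [← B.add₂_map g _ _ rfl, add₂_unitSec_self]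

theorem unit_add₂ {T : C} (p : P.obj.obj (op T)) (x : B.E.obj.obj (op T))
    (h : B.πP T (unitSec B T p) = B.πP T x) : B.add₂ T (unitSec B T p) x h = x := by
  obtain ⟨c, hc, -⟩ := B.existsUnique_act T x (B.add₂ T (unitSec B T p) x h)
    (by rw [B.πP_add₂, h]) (by rw [B.πQ_add₂, πQ_unitSec, zero_add])
  have h1 := B.add₂_assoc T (unitSec B T p) (unitSec B T p) x rfl h
  rw [add₂_congr' (add₂_unitSec_self B T p) rfl, add₂_congr' rfl hc.symm] at h1
  rw [B.add₂_comm T _ (B.act T c x), B.add₂_act, B.add₂_comm T x (unitSec B T p), ← hc, ← B.add_act] at h1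
  · have h2 := (B.existsUnique_act T x _ (B.πP_act T c x).symm (B.πQ_act T c x).symm).unique h1.symm rfl
    rw [← hc, add_eq_right.1 h2, B.zero_act]
  all_goals simp only [B.πP_act, h]

theorem exists_neg {T : C} (p : P.obj.obj (op T)) (x : B.E.obj.obj (op T)) (hp : B.πP T x = p) :
    ∃ y : B.E.obj.obj (op T), ∃ h : B.πP T y = B.πP T x, B.add₂ T y x h = unitSec B T p := by
  subst hp
  obtain ⟨R, hR, hy⟩ := B.locallySurjective T (B.πP T x) (-B.πQ T x)
  obtain ⟨y, R', hR', hy'⟩ := exists_glue B T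
    (fun T' g y => ∃ h : B.πP T' y = B.πP T' (B.E.obj.map g.op x),
      B.add₂ T' y (B.E.obj.map g.op x) h = unitSec B T' (P.obj.map g.op (B.πP T x)))
    (by
      rintro T' T'' g k y ⟨h, e⟩
      refine ⟨by rw [B.πP_map, h, ← B.πP_map, map_map_type], ?_⟩
      rw [add₂_congr' rfl (map_map_type B.E.obj g k x).symm, ← B.add₂_map k y _ h, e, unitSec_map, map_map])
    (by
      rintro T' g y y' ⟨h, e⟩ ⟨h', e'⟩
      have hQ : B.πQ T' y = B.πQ T' y' := by
        have a := congrArg (B.πQ T') e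
        have b := congrArg (B.πQ T') e'
        rw [B.πQ_add₂, πQ_unitSec] at a b
        exact add_right_cancel (a.trans b.symm)
      obtain ⟨c, rfl, -⟩ := B.existsUnique_act T' y y' (h.trans h'.symm) hQ
      rw [B.add₂_act, e] at e'
      · have := (B.existsUnique_act T' _ _ rfl rfl).unique e' (B.zero_act T' _)
        rw [this, B.zero_act]
      all_goals simp only [B.πP_act, h])
    ⟨R, hR, fun T' g hg => by
      obtain ⟨y, hyP, hyQ⟩ := hy g hg
      have hP : B.πP T' y = B.πP T' (B.E.obj.map g.op x) := by rw [B.πP_map, hyP]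
      obtain ⟨c, hc, -⟩ := B.existsUnique_act T' (B.add₂ T' y (B.E.obj.map g.op x) hP)
        (unitSec B T' (P.obj.map g.op (B.πP T x))) (by rw [B.πP_add₂, hyP, πP_unitSec])
        (by rw [B.πQ_add₂, hyQ, B.πQ_map, πQ_unitSec, map_neg, neg_add_cancel])
      exact ⟨B.act T' c y, (B.πP_act T' c y).trans hP, by
        rw [B.add₂_act, hc]
        exact hP⟩⟩
  have hP : B.πP T y = B.πP T x := sheaf_ext hR' fun T' g hg => by
    rw [← B.πP_map, (hy' g hg).choose, B.πP_map]
  exact ⟨y, hP, ext_of_mem hR' fun T' g hg => by rw [B.add₂_map, (hy' g hg).choose_spec, unitSec_map]⟩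

noncomputable instance instAddFib (T : C) (p : P.obj.obj (op T)) : Add (Fib B T p) where
  add x y := ⟨B.add₂ T x.1 y.1 (x.2.trans y.2.symm), (B.πP_add₂ T _ _ _).trans x.2⟩

noncomputable instance instZeroFib (T : C) (p : P.obj.obj (op T)) : Zero (Fib B T p) where
  zero := ⟨unitSec B T p, πP_unitSec B T p⟩

noncomputable instance instNegFib (T : C) (p : P.obj.obj (op T)) : Neg (Fib B T p) where
  neg x := ⟨(exists_neg B p x.1 x.2).choose, (exists_neg B p x.1 x.2).choose_spec.choose.trans x.2⟩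

noncomputable instance instAddCommGroupFib (T : C) (p : P.obj.obj (op T)) : AddCommGroup (Fib B T p) where
  add_assoc x y z := Subtype.ext (B.add₂_assoc T x.1 y.1 z.1 _ _)
  zero_add x := Subtype.ext (unit_add₂ B p x.1 _)
  add_zero x := Subtype.ext ((B.add₂_comm T _ _ _).trans (unit_add₂ B p x.1 _))
  nsmul := nsmulRec
  zsmul := zsmulRec
  neg_add_cancel x := Subtype.ext (exists_neg B p x.1 x.2).choose_spec.choose_spec
  add_comm x y := Subtype.ext (B.add₂_comm T x.1 y.1 _)

/-- The action on the unit section embeds `G` into the fibre over `p`. -/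
noncomputable def fibι (T : C) (p : P.obj.obj (op T)) : G.obj.obj (op T) →+ Fib B T p :=
  AddMonoidHom.mk' (fun g => ⟨B.act T g (unitSec B T p), (B.πP_act T g _).trans (πP_unitSec B T p)⟩) fun g g' => by
    refine Subtype.ext ?_
    change B.act T (g + g') _ = B.add₂ T (B.act T g _) (B.act T g' _) _
    rw [B.add₂_act, B.add₂_comm T (unitSec B T p) (B.act T g' _), B.add₂_act, add₂_unitSec_self, B.add_act]
    all_goals simp only [B.πP_act]

theorem fibι_add {T : C} {p : P.obj.obj (op T)} (g : G.obj.obj (op T)) (x : Fib B T p) :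
    (fibι B T p g + x).1 = B.act T g x.1 := by
  change B.add₂ T (B.act T g _) x.1 _ = _
  rw [B.add₂_act, unit_add₂]
  rw [πP_unitSec, x.2]

theorem fibι_injective (T : C) (p : P.obj.obj (op T)) : Function.Injective (fibι B T p) := fun g g' h =>
  (B.existsUnique_act T _ _ (B.πP_act T g _).symm (B.πQ_act T g _).symm).unique rfl
    (congrArg Subtype.val h).symm

/-- The relations of the universal linearisation. -/
noncomputable def linRel (T : C) : AddSubgroup ((B.E.obj.obj (op T) →₀ ℤ) × G.obj.obj (op T)) :=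
  AddSubgroup.closure ({z | ∃ g x, z = (Finsupp.single (B.act T g x) 1 - Finsupp.single x 1, -g)} ∪
    {z | ∃ x y h, z = (Finsupp.single (B.add₂ T x y h) 1 - Finsupp.single x 1 - Finsupp.single y 1, 0)})

theorem eq_zero_of_mem_linRel (T : C) (g : G.obj.obj (op T)) (h : ((0, g) : _ × _) ∈ linRel B T) : g = 0 := by
  classical
  let Φ : ∀ p : P.obj.obj (op T), (B.E.obj.obj (op T) →₀ ℤ) →+ Fib B T p := fun p =>
    Finsupp.liftAddHom fun x => zmultiplesHom _ (if hp : B.πP T x = p then ⟨x, hp⟩ else 0)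
  have hΦ : ∀ p x, Φ p (Finsupp.single x 1) = if hp : B.πP T x = p then ⟨x, hp⟩ else 0 := fun p x => by
    simp [Φ]
  let S : AddSubgroup ((B.E.obj.obj (op T) →₀ ℤ) × G.obj.obj (op T)) :=
    { carrier := {z | ∃ c : P.obj.obj (op T) →₀ G.obj.obj (op T),
        (∀ p, Φ p z.1 + fibι B T p (c p) = 0) ∧ z.2 = c.sum fun _ a => a}
      zero_mem' := ⟨0, fun p => by simp, by simp⟩
      add_mem' := by
        rintro a b ⟨c, hc, hc'⟩ ⟨d, hd, hd'⟩
        refine ⟨c + d, fun p => ?_, ?_⟩
        · rw [Prod.fst_add, map_add, Finsupp.add_apply, map_add, add_add_add_comm, hc, hd, add_zero]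
        · rw [Prod.snd_add, hc', hd', Finsupp.sum_add_index' (fun _ => rfl) (fun _ _ _ => rfl)]
      neg_mem' := by
        rintro a ⟨c, hc, hc'⟩
        refine ⟨-c, fun p => ?_, ?_⟩
        · rw [Prod.fst_neg, map_neg, Finsupp.neg_apply, map_neg, ← neg_add, hc, neg_zero]
        · rw [Prod.snd_neg, hc', Finsupp.sum_neg_index fun _ => rfl]
          simp [Finsupp.sum, Finset.sum_neg_distrib] }
  have hle : linRel B T ≤ S := by
    refine (AddSubgroup.closure_le _).2 ?_
    rintro z (⟨a, x, rfl⟩ | ⟨x, y, hxy, rfl⟩)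
    · refine ⟨Finsupp.single (B.πP T x) (-a), fun p => ?_, by rw [Finsupp.sum_single_index] <;> rfl⟩
      rw [map_sub, hΦ, hΦ]
      by_cases hp : B.πP T x = p
      · subst hp
        rw [dif_pos (B.πP_act T a x), dif_pos rfl, Finsupp.single_eq_same, map_neg, ← sub_eq_add_neg,
          sub_eq_zero, sub_eq_iff_eq_add]
        exact Subtype.ext (fibι_add B a ⟨x, rfl⟩).symm
      · rw [dif_neg hp, dif_neg (by rwa [B.πP_act]), Finsupp.single_eq_of_ne (Ne.symm hp)]
        simp
    · refine ⟨0, fun p => ?_, by simp⟩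
      rw [map_sub, map_sub, hΦ, hΦ, hΦ]
      by_cases hp : B.πP T x = p
      · rw [dif_pos ((B.πP_add₂ T x y hxy).trans hp), dif_pos hp, dif_pos (hxy.symm.trans hp),
          Finsupp.zero_apply, map_zero, add_zero, sub_sub, sub_eq_zero]
        rfl
      · rw [dif_neg hp, dif_neg (by rwa [B.πP_add₂]), dif_neg (by rwa [← hxy])]
        simp
  obtain ⟨c, hc, hc'⟩ := hle h
  have : c = 0 := Finsupp.ext fun p => fibι_injective B T p (by
    have := hc p
    simpa using this)
  simpa [this] using hc'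

theorem linRel_le_comap {T T' : C} (f : T' ⟶ T) : linRel B T ≤ (linRel B T').comap
    ((Finsupp.mapDomain.addMonoidHom (B.E.obj.map f.op)).prodMap (G.obj.map f.op).hom) := by
  refine (AddSubgroup.closure_le _).2 ?_
  rintro z (⟨a, x, rfl⟩ | ⟨x, y, hxy, rfl⟩)
  · refine AddSubgroup.subset_closure (Or.inl ⟨G.obj.map f.op a, B.E.obj.map f.op x, ?_⟩)
    simp [Finsupp.mapDomain_sub, Finsupp.mapDomain_single, B.act_map]
  · refine AddSubgroup.subset_closure (Or.inr ⟨B.E.obj.map f.op x, B.E.obj.map f.op y,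
      by rw [B.πP_map, B.πP_map, hxy], ?_⟩)
    simp [Finsupp.mapDomain_sub, Finsupp.mapDomain_single, B.add₂_map]

/-- The universal linearisation, as a presheaf. -/
noncomputable def linPre : Cᵒᵖ ⥤ AddCommGrpCat.{u + 1} where
  obj T := AddCommGrpCat.of (((B.E.obj.obj (op T.unop) →₀ ℤ) × G.obj.obj (op T.unop)) ⧸ linRel B T.unop)
  map f := AddCommGrpCat.ofHom (QuotientAddGroup.map _ _
    ((Finsupp.mapDomain.addMonoidHom (B.E.obj.map f)).prodMap (G.obj.map f).hom)
    (linRel_le_comap B f.unop))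
  map_id T := AddCommGrpCat.ext fun z => by
    induction z using QuotientAddGroup.induction_on with
    | _ z =>
      refine congrArg (QuotientAddGroup.mk' (linRel B T.unop)) (Prod.ext ?_ ?_)
      · change Finsupp.mapDomain (B.E.obj.map (𝟙 T)) z.1 = z.1
        rw [B.E.obj.map_id]
        exact Finsupp.mapDomain_id
      · change G.obj.map (𝟙 T) z.2 = z.2
        rw [G.obj.map_id]
        rfl
  map_comp {T T' T''} f g := AddCommGrpCat.ext fun z => by
    induction z using QuotientAddGroup.induction_on with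
    | _ z =>
      refine congrArg (QuotientAddGroup.mk' (linRel B T''.unop)) (Prod.ext ?_ ?_)
      · change Finsupp.mapDomain (B.E.obj.map (f ≫ g)) z.1 =
          Finsupp.mapDomain (B.E.obj.map g) (Finsupp.mapDomain (B.E.obj.map f) z.1)
        rw [← Finsupp.mapDomain_comp, B.E.obj.map_comp]
        rfl
      · change G.obj.map (f ≫ g) z.2 = G.obj.map g (G.obj.map f z.2)
        rw [G.obj.map_comp]
        rfl

/-- `G` inside the universal linearisation. -/
noncomputable def linιPre : G.obj ⟶ linPre B where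
  app T := AddCommGrpCat.ofHom ((QuotientAddGroup.mk' (linRel B T.unop)).comp (AddMonoidHom.inr _ _))
  naturality T T' f := AddCommGrpCat.ext fun g => by
    refine congrArg (QuotientAddGroup.mk' (linRel B T'.unop)) (Prod.ext ?_ rfl)
    exact (map_zero (Finsupp.mapDomain.addMonoidHom (B.E.obj.map f))).symm

variable [HasSheafify J AddCommGrpCat.{u + 1}]

/-- The universal linearisation. -/
noncomputable def linSh : Sheaf J AddCommGrpCat.{u + 1} := (presheafToSheaf J AddCommGrpCat.{u + 1}).obj (linPre B)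

/-- `G` inside the universal linearisation. -/
noncomputable def linι : G ⟶ linSh B := ⟨linιPre B ≫ toSheafify J (linPre B)⟩

theorem linι_injective (T : Cᵒᵖ) : Function.Injective ((linι B).hom.app T) := by
  rw [injective_iff_map_eq_zero]
  intro g hg
  have h := Presheaf.equalizerSieve_mem J (toSheafify J (linPre B)) ((linιPre B).app T g) 0
    (hg.trans (map_zero _).symm)
  refine sheaf_ext h fun T' f hf => ?_
  have hf' : (linPre B).map f.op ((linιPre B).app T g) = (linPre B).map f.op 0 := hf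
  rw [map_zero] at hf' ⊢
  rw [← NatTrans.naturality_apply (linιPre B) f.op g] at hf'
  exact eq_zero_of_mem_linRel B T' _ ((QuotientAddGroup.eq_zero_iff _).1 hf')

instance : Mono (linι B) := by
  haveI : ∀ T, Mono ((linι B).hom.app T) := fun T => (AddCommGrpCat.mono_iff_injective _).2 (linι_injective B T)
  haveI : Mono ((sheafToPresheaf J AddCommGrpCat.{u + 1}).map (linι B)) :=
    NatTrans.mono_of_mono_app (linι B).hom
  exact (sheafToPresheaf J AddCommGrpCat.{u + 1}).mono_of_mono_map this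

/-- The linearised section attached to a section of `B`. -/
noncomputable def lam (T : C) (x : B.E.obj.obj (op T)) : (linSh B).obj.obj (op T) :=
  (toSheafify J (linPre B)).app (op T) (QuotientAddGroup.mk' (linRel B T) (Finsupp.single x 1, 0))

theorem lam_map {T T' : C} (f : T' ⟶ T) (x : B.E.obj.obj (op T)) :
    (linSh B).obj.map f.op (lam B T x) = lam B T' (B.E.obj.map f.op x) := by
  refine ((NatTrans.naturality_apply (toSheafify J (linPre B)) f.op _).symm.trans ?_)
  refine congrArg ((toSheafify J (linPre B)).app (op T'))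
    (congrArg (QuotientAddGroup.mk' (linRel B T')) (Prod.ext ?_ (map_zero (G.obj.map f.op).hom)))
  exact Finsupp.mapDomain_single

theorem lam_act (T : C) (g : G.obj.obj (op T)) (x : B.E.obj.obj (op T)) :
    lam B T (B.act T g x) = (linι B).hom.app (op T) g + lam B T x := by
  change (toSheafify J (linPre B)).app (op T) _ =
    (toSheafify J (linPre B)).app (op T) ((linιPre B).app (op T) g) + _
  rw [lam]
  refine Eq.trans ?_ (map_add ((toSheafify J (linPre B)).app (op T)).hom _ _)
  refine congrArg ((toSheafify J (linPre B)).app (op T)) ((QuotientAddGroup.eq_iff_sub_mem).2 ?_)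
  refine AddSubgroup.subset_closure (Or.inl ⟨g, x, ?_⟩)
  simp [linιPre]

theorem lam_add₂ (T : C) (x y : B.E.obj.obj (op T)) (h : B.πP T x = B.πP T y) :
    lam B T (B.add₂ T x y h) = lam B T x + lam B T y := by
  rw [lam, lam, lam]
  refine Eq.trans ?_ (map_add ((toSheafify J (linPre B)).app (op T)).hom _ _)
  refine congrArg ((toSheafify J (linPre B)).app (op T)) ((QuotientAddGroup.eq_iff_sub_mem).2 ?_)
  refine AddSubgroup.subset_closure (Or.inr ⟨x, y, h, ?_⟩)
  simp [sub_sub]

end GrothLib.BiextRigid15
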