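import Groth.Agent.Lib.BiextRigid15.Divisible
import Groth.Prelude.Def_CGrpSh2

/-!
# Sections of the internal Hom built from local values
-/

set_option autoImplicit false
set_option backward.isDefEq.respectTransparency false

universe u

open CategoryTheory CategoryTheory.Limits Opposite

namespace GrothLib.BiextRigid15

variable {C : Type (u + 1)} [Category.{u} C] {J : GrothendieckTopology C}
  {Q A A' : Sheaf J AddCommGrpCat.{u + 1}}

/-- The value of a section of the internal Hom along `g`. -/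
def homApp {T : C} (φ : (HomSh.homSh J Q A).obj.obj (op T)) {T' : C} (g : T' ⟶ T) :
    Q.obj.obj (op T') →+ A.obj.obj (op T') :=
  ((φ : Q.over T ⟶ A.over T).hom.app (op (Over.mk g))).hom

theorem homApp_ext {T : C} {φ ψ : (HomSh.homSh J Q A).obj.obj (op T)}
    (h : ∀ ⦃T' : C⦄ (g : T' ⟶ T) (q : Q.obj.obj (op T')), homApp φ g q = homApp ψ g q) : φ = ψ :=
  Sheaf.hom_ext (NatTrans.ext (funext fun U => AddCommGrpCat.ext fun q => h (unop U).hom q))

theorem homApp_map {T T₁ : C} (φ : (HomSh.homSh J Q A).obj.obj (op T)) (f : T₁ ⟶ T) {T' : C}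
    (g : T' ⟶ T₁) (q : Q.obj.obj (op T')) :
    homApp ((HomSh.homSh J Q A).obj.map f.op φ) g q = homApp φ (g ≫ f) q := rfl

theorem homApp_naturality {T : C} (φ : (HomSh.homSh J Q A).obj.obj (op T)) {T' T'' : C} (g : T' ⟶ T)
    (h : T'' ⟶ T') (q : Q.obj.obj (op T')) :
    A.obj.map h.op (homApp φ g q) = homApp φ (h ≫ g) (Q.obj.map h.op q) :=
  (ConcreteCategory.congr_hom ((φ : Q.over T ⟶ A.over T).hom.naturality
    (Over.homMk h : Over.mk (h ≫ g) ⟶ Over.mk g).op) q).symm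

theorem homApp_add {T : C} (φ ψ : (HomSh.homSh J Q A).obj.obj (op T)) {T' : C} (g : T' ⟶ T)
    (q : Q.obj.obj (op T')) : homApp (φ + ψ) g q = homApp φ g q + homApp ψ g q := rfl

theorem homApp_zero {T : C} {T' : C} (g : T' ⟶ T) (q : Q.obj.obj (op T')) :
    homApp (0 : (HomSh.homSh J Q A).obj.obj (op T)) g q = 0 := rfl

theorem homApp_neg {T : C} (φ : (HomSh.homSh J Q A).obj.obj (op T)) {T' : C} (g : T' ⟶ T)
    (q : Q.obj.obj (op T')) : homApp (-φ) g q = -homApp φ g q := by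
  rw [eq_neg_iff_add_eq_zero, ← homApp_add, neg_add_cancel, homApp_zero]

theorem homApp_sub {T : C} (φ ψ : (HomSh.homSh J Q A).obj.obj (op T)) {T' : C} (g : T' ⟶ T)
    (q : Q.obj.obj (op T')) : homApp (φ - ψ) g q = homApp φ g q - homApp ψ g q := by
  rw [sub_eq_add_neg, homApp_add, homApp_neg, ← sub_eq_add_neg]

theorem homApp_homShMap (β : A ⟶ A') {T : C} (φ : (HomSh.homSh J Q A).obj.obj (op T)) {T' : C}
    (g : T' ⟶ T) (q : Q.obj.obj (op T')) :
    homApp ((HomSh.homShMap J (𝟙 Q) β).hom.app (op T) φ) g q = β.hom.app (op T') (homApp φ g q) := rfl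

/-- A section of the internal Hom from local values which are unique and additive. -/
theorem exists_homOfRel (T : C)
    (Rel : ∀ ⦃T' : C⦄, (T' ⟶ T) → Q.obj.obj (op T') → A.obj.obj (op T') → Prop)
    (hres : ∀ ⦃T' T'' : C⦄ (g : T' ⟶ T) (h : T'' ⟶ T') q a, Rel g q a →
      Rel (h ≫ g) (Q.obj.map h.op q) (A.obj.map h.op a))
    (huniq : ∀ ⦃T' : C⦄ (g : T' ⟶ T) q a b, Rel g q a → Rel g q b → a = b)
    (hex : ∀ ⦃T' : C⦄ (g : T' ⟶ T) q, ∃ R ∈ J T', ∀ ⦃T'' : C⦄ (h : T'' ⟶ T'), R h →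
      ∃ a, Rel (h ≫ g) (Q.obj.map h.op q) a)
    (hadd : ∀ ⦃T' : C⦄ (g : T' ⟶ T) q q' a a', Rel g q a → Rel g q' a' → Rel g (q + q') (a + a')) :
    ∃ φ : (HomSh.homSh J Q A).obj.obj (op T),
      ∀ ⦃T' : C⦄ (g : T' ⟶ T) q a, Rel g q a → homApp φ g q = a := by
  have hglue : ∀ ⦃T' : C⦄ (g : T' ⟶ T) (q : Q.obj.obj (op T')), ∃ b : A.obj.obj (op T'),
      ∀ ⦃T'' : C⦄ (h : T'' ⟶ T') a, Rel (h ≫ g) (Q.obj.map h.op q) a → A.obj.map h.op b = a := by
    intro T' g q
    obtain ⟨R, hR, ha⟩ := hex g q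
    choose a ha using ha
    let fam : Presieve.FamilyOfElements (Biext.uSh J A).obj R.arrows := fun T'' h hh => a h hh
    have hfam : fam.Compatible := by
      intro Y₁ Y₂ Z g₁ g₂ f₁ f₂ h₁ h₂ hc
      refine huniq _ _ _ _ (hres _ g₁ _ _ (ha f₁ h₁)) ?_
      have := hres _ g₂ _ _ (ha f₂ h₂)
      rw [← Category.assoc, ← hc, Category.assoc, ← ConcreteCategory.comp_apply, ← Functor.map_comp,
        ← op_comp, ← hc, op_comp, Functor.map_comp, ConcreteCategory.comp_apply] at this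
      exact this
    obtain ⟨b, hb, -⟩ := (isSheaf_iff_isSheaf_of_type _ _).1 (Biext.uSh J A).property _ hR fam hfam
    refine ⟨b, fun T'' h c hc => sheaf_ext (J.pullback_stable h hR) fun T₃ k hk => ?_⟩
    have e : A.obj.map (k ≫ h).op b = a (k ≫ h) hk := hb (k ≫ h) hk
    rw [← ConcreteCategory.comp_apply, ← Functor.map_comp, ← op_comp, e]
    have h1 := hres _ k _ _ hc
    rw [← ConcreteCategory.comp_apply, ← Functor.map_comp, ← op_comp, ← Category.assoc] at h1
    exact huniq _ _ _ _ (ha _ hk) h1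
  choose val hval using hglue
  have hval_nat : ∀ ⦃T₁ T₂ : C⦄ (g : T₁ ⟶ T) (h : T₂ ⟶ T₁) (q : Q.obj.obj (op T₁)),
      A.obj.map h.op (val g q) = val (h ≫ g) (Q.obj.map h.op q) := by
    intro T₁ T₂ g h q
    obtain ⟨R, hR, ha⟩ := hex (h ≫ g) (Q.obj.map h.op q)
    refine sheaf_ext hR fun T₃ k hk => ?_
    obtain ⟨a, ha⟩ := ha k hk
    rw [hval _ _ k a ha, ← ConcreteCategory.comp_apply, ← Functor.map_comp, ← op_comp]
    refine hval g q (k ≫ h) a ?_
    rw [Category.assoc, op_comp, Functor.map_comp, ConcreteCategory.comp_apply]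
    exact ha
  have hval_add : ∀ ⦃T₁ : C⦄ (g : T₁ ⟶ T) (q q' : Q.obj.obj (op T₁)),
      val g (q + q') = val g q + val g q' := by
    intro T₁ g q q'
    obtain ⟨R, hR, ha⟩ := hex g q
    obtain ⟨R', hR', ha'⟩ := hex g q'
    refine sheaf_ext (J.intersection_covering hR hR') fun T₃ k hk => ?_
    obtain ⟨a, ha⟩ := ha k hk.1
    obtain ⟨a', ha'⟩ := ha' k hk.2
    rw [map_add, hval g q k a ha, hval g q' k a' ha']
    refine hval g (q + q') k (a + a') ?_
    rw [map_add]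
    exact hadd _ _ _ _ _ ha ha'
  let app : ∀ U : (Over T)ᵒᵖ, (Q.over T).obj.obj U ⟶ (A.over T).obj.obj U := fun U =>
    AddCommGrpCat.ofHom (AddMonoidHom.mk' (fun q : Q.obj.obj (op (unop U).left) => val (unop U).hom q)
      (hval_add (unop U).hom))
  refine ⟨(⟨{ app := app, naturality := fun U U' k => AddCommGrpCat.ext fun q => ?_ }⟩ :
    Q.over T ⟶ A.over T), fun T' g q a h => ?_⟩
  · have e := hval_nat (unop U).hom k.unop.left q
    rw [Over.w k.unop] at e
    exact e.symm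
  · change val g q = a
    have e := hval g q (𝟙 T') a (by rwa [Category.id_comp, op_id, Q.obj.map_id, ConcreteCategory.id_apply])
    rwa [op_id, A.obj.map_id, ConcreteCategory.id_apply] at e

end GrothLib.BiextRigid15
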