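import Groth.Agent.Lib.BiextRigid15.Pushout
import Groth.Agent.Lib.BiextRigid15.SheafHomTools
import Groth.Agent.Lib.HomShExact13.Dual
import Groth.Agent.Lib.RDerLES.LES
import Mathlib.Algebra.Homology.DerivedCategory.Ext.ExactSequences
import Mathlib.Algebra.Homology.ShortComplex.Ab

/-!
# Biextensions are trivial when `Ext¹(P, 𝓗om(Q, G))` and `Hom(P, 𝓔xt¹(Q, G))` vanish
-/

set_option autoImplicit false
set_option backward.isDefEq.respectTransparency false

universe w u

open CategoryTheory CategoryTheory.Limits Opposite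

noncomputable section

namespace GrothLib.BiextRigid15

variable {C : Type (u + 1)} [Category.{u} C] {J : GrothendieckTopology C} [HasSheafify J AddCommGrpCat.{u + 1}]
  {P Q G : Sheaf J AddCommGrpCat.{u + 1}} (B : Biext J P Q G)

theorem injective_app_of_mono {A A' : Sheaf J AddCommGrpCat.{u + 1}} (f : A ⟶ A') [Mono f] (T : Cᵒᵖ) :
    Function.Injective (f.hom.app T) := by
  haveI : Mono ((sheafToPresheaf J AddCommGrpCat.{u + 1}).map f) := inferInstance
  haveI : Mono (f.hom.app T) := inferInstanceAs (Mono (((sheafToPresheaf J AddCommGrpCat.{u + 1}).map f).app T))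
  exact (AddCommGrpCat.mono_iff_injective _).1 inferInstance

omit [HasSheafify J AddCommGrpCat.{u + 1}] in
theorem hom_app_congr {A A' : Sheaf J AddCommGrpCat.{u + 1}} {f g : A ⟶ A'} (h : f = g) (T : Cᵒᵖ)
    (x : A.obj.obj T) : f.hom.app T x = g.hom.app T x := by rw [h]

theorem exists_of_exact_mono (S : ShortComplex (Sheaf J AddCommGrpCat.{u + 1})) (hS : S.Exact) [Mono S.f]
    (T : C) (s : S.X₂.obj.obj (op T)) (hs : S.g.hom.app (op T) s = 0) : ∃ r, S.f.hom.app (op T) r = s := by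
  let F := sheafToPresheaf J AddCommGrpCat.{u + 1} ⋙ (evaluation Cᵒᵖ AddCommGrpCat.{u + 1}).obj (op T)
  haveI : F.Additive := { map_add := by intros; rfl }
  have h := hS.map_of_mono_of_preservesKernel F inferInstance inferInstance
  rw [ShortComplex.ab_exact_iff] at h
  exact h s hs

theorem exists_local_of_exact (S : ShortComplex (Sheaf J AddCommGrpCat.{u + 1})) (hS : S.Exact)
    (T : C) (s : S.X₂.obj.obj (op T)) (hs : S.g.hom.app (op T) s = 0) :
    ∃ R ∈ J T, ∀ ⦃T' : C⦄ (h : T' ⟶ T), R h → ∃ r, S.f.hom.app (op T') r = S.X₂.obj.map h.op s := by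
  let K : ShortComplex (Sheaf J AddCommGrpCat.{u + 1}) := ShortComplex.mk (kernel.ι S.g) S.g (kernel.condition _)
  haveI : Mono K.f := inferInstanceAs (Mono (kernel.ι S.g))
  obtain ⟨k, hk⟩ := exists_of_exact_mono K
    (ShortComplex.exact_of_f_is_kernel _ (kernelIsKernel S.g)) T s hs
  haveI : Epi (kernel.lift S.g S.f S.zero) := hS.epi_kernelLift
  haveI : Presheaf.IsLocallySurjective J (kernel.lift S.g S.f S.zero).hom :=
    (Sheaf.isLocallySurjective_iff_epi' _ (kernel.lift S.g S.f S.zero)).2 inferInstance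
  refine ⟨_, Presheaf.imageSieve_mem J (kernel.lift S.g S.f S.zero).hom k, ?_⟩
  rintro T' h ⟨r, hr⟩
  refine ⟨r, ?_⟩
  conv_lhs => rw [← kernel.lift_ι S.g S.f S.zero]
  change (kernel.ι S.g).hom.app (op T') ((kernel.lift S.g S.f S.zero).hom.app (op T') r) = _
  rw [hr, NatTrans.naturality_apply (kernel.ι S.g).hom h.op k]
  exact congrArg (S.X₂.obj.map h.op) hk

omit [HasSheafify J AddCommGrpCat.{u + 1}] in
theorem hom_ext_local {A : Sheaf J AddCommGrpCat.{u + 1}} {T : C}
    {φ ψ : (HomSh.homSh J Q A).obj.obj (op T)}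
    (h : ∀ ⦃T' : C⦄ (g : T' ⟶ T) (q : Q.obj.obj (op T')), ∃ R ∈ J T', ∀ ⦃T'' : C⦄ (k : T'' ⟶ T'), R k →
      homApp φ (k ≫ g) (Q.obj.map k.op q) = homApp ψ (k ≫ g) (Q.obj.map k.op q)) : φ = ψ := by
  refine homApp_ext fun T' g q => ?_
  obtain ⟨R, hR, hk⟩ := h g q
  exact sheaf_ext hR fun T'' k hk' => by rw [homApp_naturality, homApp_naturality, hk k hk']

/-- The quotient of the linearisation by `G`. -/
abbrev quotSh : Sheaf J AddCommGrpCat.{u + 1} := cokernel (linι B)

/-- The projection to the quotient. -/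
abbrev quotπ : linSh B ⟶ quotSh B := cokernel.π (linι B)

/-- `G → linSh B → quotSh B`. -/
abbrev linSeq : ShortComplex (Sheaf J AddCommGrpCat.{u + 1}) :=
  ShortComplex.mk (linι B) (quotπ B) (cokernel.condition _)

theorem linSeq_shortExact : (linSeq B).ShortExact where
  exact := ShortComplex.exact_of_g_is_cokernel _ (cokernelIsCokernel _)
  mono_f := inferInstanceAs (Mono (linι B))
  epi_g := inferInstanceAs (Epi (cokernel.π (linι B)))

theorem quotπ_linι (T : Cᵒᵖ) (g : G.obj.obj T) : (quotπ B).hom.app T ((linι B).hom.app T g) = 0 :=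
  hom_app_congr (cokernel.condition (linι B)) T g

theorem exists_psi (T : C) (p : P.obj.obj (op T)) :
    ∃ φ : (HomSh.homSh J Q (quotSh B)).obj.obj (op T), ∀ ⦃T' : C⦄ (g : T' ⟶ T) (x : B.E.obj.obj (op T')),
      B.πP T' x = P.obj.map g.op p →
        homApp φ g (B.πQ T' x) = (quotπ B).hom.app (op T') (lam B T' x) := by
  obtain ⟨φ, hφ⟩ := exists_homOfRel (Q := Q) (A := quotSh B) T
    (fun T' g q a => ∃ x, B.πP T' x = P.obj.map g.op p ∧ B.πQ T' x = q ∧
      a = (quotπ B).hom.app (op T') (lam B T' x))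
    (by
      rintro T' T'' g h q a ⟨x, hp, hq, rfl⟩
      refine ⟨B.E.obj.map h.op x, by rw [B.πP_map, hp, map_map], by rw [B.πQ_map, hq], ?_⟩
      rw [← NatTrans.naturality_apply (quotπ B).hom h.op, lam_map])
    (by
      rintro T' g q a b ⟨x, hp, hq, rfl⟩ ⟨y, hp', hq', rfl⟩
      obtain ⟨c, rfl, -⟩ := B.existsUnique_act T' x y (hp.trans hp'.symm) (hq.trans hq'.symm)
      rw [lam_act, map_add, quotπ_linι, zero_add])
    (fun T' g q => by
      obtain ⟨R, hR, hx⟩ := B.locallySurjective T' (P.obj.map g.op p) q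
      refine ⟨R, hR, fun T'' h hh => ?_⟩
      obtain ⟨x, hp, hq⟩ := hx h hh
      exact ⟨_, x, by rw [hp, map_map], hq, rfl⟩)
    (by
      rintro T' g q q' a a' ⟨x, hp, hq, rfl⟩ ⟨y, hp', hq', rfl⟩
      refine ⟨B.add₂ T' x y (hp.trans hp'.symm), by rw [B.πP_add₂, hp], by rw [B.πQ_add₂, hq, hq'], ?_⟩
      rw [lam_add₂, map_add])
  exact ⟨φ, fun T' g x hp => hφ g _ _ ⟨x, hp, rfl, rfl⟩⟩

/-- The homomorphism `Q → quotSh B` attached to a section of `P`. -/
def psi (T : C) (p : P.obj.obj (op T)) : (HomSh.homSh J Q (quotSh B)).obj.obj (op T) :=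
  (exists_psi B T p).choose

theorem psi_spec {T : C} {p : P.obj.obj (op T)} ⦃T' : C⦄ (g : T' ⟶ T) (x : B.E.obj.obj (op T'))
    (h : B.πP T' x = P.obj.map g.op p) :
    homApp (psi B T p) g (B.πQ T' x) = (quotπ B).hom.app (op T') (lam B T' x) :=
  (exists_psi B T p).choose_spec g x h

theorem psi_map {T T₁ : C} (f : T₁ ⟶ T) (p : P.obj.obj (op T)) :
    (HomSh.homSh J Q (quotSh B)).obj.map f.op (psi B T p) = psi B T₁ (P.obj.map f.op p) := by
  refine hom_ext_local fun T' g q => ?_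
  obtain ⟨R, hR, hx⟩ := B.locallySurjective T' (P.obj.map g.op (P.obj.map f.op p)) q
  refine ⟨R, hR, fun T'' k hk => ?_⟩
  obtain ⟨x, hp, hq⟩ := hx k hk
  rw [homApp_map, ← hq, psi_spec B _ x (by rw [hp, map_map, map_map, Category.assoc]),
    psi_spec B _ x (by rw [hp, map_map])]

theorem exists_defect (T : C) (p p' : P.obj.obj (op T)) :
    ∃ φ : (HomSh.homSh J Q (linSh B)).obj.obj (op T), ∀ ⦃T' : C⦄ (g : T' ⟶ T) (x z : B.E.obj.obj (op T'))
      (h : B.πQ T' x = B.πQ T' z), B.πP T' x = P.obj.map g.op p → B.πP T' z = P.obj.map g.op p' →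
        homApp φ g (B.πQ T' x) = lam B T' (B.add₁ T' x z h) - lam B T' x - lam B T' z := by
  obtain ⟨φ, hφ⟩ := exists_homOfRel (Q := Q) (A := linSh B) T
    (fun T' g q a => ∃ x z, ∃ h : B.πQ T' x = B.πQ T' z, B.πP T' x = P.obj.map g.op p ∧
      B.πP T' z = P.obj.map g.op p' ∧ B.πQ T' x = q ∧
      a = lam B T' (B.add₁ T' x z h) - lam B T' x - lam B T' z)
    (by
      rintro T' T'' g k q a ⟨x, z, h, hp, hp', hq, rfl⟩
      refine ⟨B.E.obj.map k.op x, B.E.obj.map k.op z, by rw [B.πQ_map, B.πQ_map, h],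
        by rw [B.πP_map, hp, map_map], by rw [B.πP_map, hp', map_map], by rw [B.πQ_map, hq], ?_⟩
      rw [map_sub, map_sub, lam_map, lam_map, lam_map, B.add₁_map])
    (by
      rintro T' g q a b ⟨x, z, h, hp, hp', hq, rfl⟩ ⟨x₁, z₁, h₁, hp₁, hp₁', hq₁, rfl⟩
      obtain ⟨c, rfl, -⟩ := B.existsUnique_act T' x x₁ (hp.trans hp₁.symm) (hq.trans hq₁.symm)
      obtain ⟨d, rfl, -⟩ := B.existsUnique_act T' z z₁ (hp'.trans hp₁'.symm)
        ((h.symm.trans hq).trans (hq₁.symm.trans (h₁.trans rfl)))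
      rw [B.add₁_act T' c x (B.act T' d z) (h.trans (B.πQ_act T' d z).symm), lam_act, lam_act, lam_act,
        B.add₁_comm T' x (B.act T' d z), B.add₁_act T' d z x h.symm, lam_act, B.add₁_comm T' z x h.symm]
      abel)
    (fun T' g q => by
      obtain ⟨R, hR, hx⟩ := B.locallySurjective T' (P.obj.map g.op p) q
      obtain ⟨R', hR', hz⟩ := B.locallySurjective T' (P.obj.map g.op p') q
      refine ⟨R ⊓ R', J.intersection_covering hR hR', fun T'' k hk => ?_⟩
      obtain ⟨x, hp, hq⟩ := hx k hk.1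
      obtain ⟨z, hp', hq'⟩ := hz k hk.2
      exact ⟨_, x, z, hq.trans hq'.symm, by rw [hp, map_map], by rw [hp', map_map], hq, rfl⟩)
    (by
      rintro T' g q q' a a' ⟨x, z, h, hp, hp', hq, rfl⟩ ⟨y, t, h', hp₁, hp₁', hq₁, rfl⟩
      refine ⟨B.add₂ T' x y (hp.trans hp₁.symm), B.add₂ T' z t (hp'.trans hp₁'.symm),
        by rw [B.πQ_add₂, B.πQ_add₂, h, h'], by rw [B.πP_add₂, hp], by rw [B.πP_add₂, hp'],
        by rw [B.πQ_add₂, hq, hq₁], ?_⟩
      rw [B.compat T' x y z t _ _ h h', lam_add₂, lam_add₂, lam_add₂]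
      abel)
  exact ⟨φ, fun T' g x z h hp hp' => hφ g _ _ ⟨x, z, h, hp, hp', rfl, rfl⟩⟩

theorem psi_spec' {T : C} {p : P.obj.obj (op T)} ⦃T' : C⦄ (g : T' ⟶ T) (x : B.E.obj.obj (op T'))
    (h : B.πP T' x = P.obj.map g.op p) {q : Q.obj.obj (op T')} (hq : B.πQ T' x = q) :
    homApp (psi B T p) g q = (quotπ B).hom.app (op T') (lam B T' x) := by
  subst hq
  exact psi_spec B g x h

/-- The failure of the linearisation to respect the first law. -/
def defect (T : C) (p p' : P.obj.obj (op T)) : (HomSh.homSh J Q (linSh B)).obj.obj (op T) :=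
  (exists_defect B T p p').choose

theorem defect_spec {T : C} {p p' : P.obj.obj (op T)} ⦃T' : C⦄ (g : T' ⟶ T) (x z : B.E.obj.obj (op T'))
    (h : B.πQ T' x = B.πQ T' z) (hp : B.πP T' x = P.obj.map g.op p) (hp' : B.πP T' z = P.obj.map g.op p') :
    homApp (defect B T p p') g (B.πQ T' x) = lam B T' (B.add₁ T' x z h) - lam B T' x - lam B T' z :=
  (exists_defect B T p p').choose_spec g x z h hp hp'

theorem defect_spec' {T : C} {p p' : P.obj.obj (op T)} ⦃T' : C⦄ (g : T' ⟶ T) (x z : B.E.obj.obj (op T'))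
    (h : B.πQ T' x = B.πQ T' z) (hp : B.πP T' x = P.obj.map g.op p) (hp' : B.πP T' z = P.obj.map g.op p')
    {q : Q.obj.obj (op T')} (hq : B.πQ T' x = q) :
    homApp (defect B T p p') g q = lam B T' (B.add₁ T' x z h) - lam B T' x - lam B T' z := by
  subst hq
  exact defect_spec B g x z h hp hp'

theorem defect_comm (T : C) (p p' : P.obj.obj (op T)) : defect B T p p' = defect B T p' p := by
  refine hom_ext_local fun T' g q => ?_
  obtain ⟨R, hR, hx⟩ := B.locallySurjective T' (P.obj.map g.op p) q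
  obtain ⟨R', hR', hz⟩ := B.locallySurjective T' (P.obj.map g.op p') q
  refine ⟨R ⊓ R', J.intersection_covering hR hR', fun T'' k hk => ?_⟩
  obtain ⟨x, hp, hq⟩ := hx k hk.1
  obtain ⟨z, hp', hq'⟩ := hz k hk.2
  rw [map_map] at hp hp'
  rw [defect_spec' B _ x z (hq.trans hq'.symm) hp hp' hq,
    defect_spec' B _ z x (hq'.trans hq.symm) hp' hp hq', B.add₁_comm]
  abel

theorem defect_cocycle (T : C) (p p' p'' : P.obj.obj (op T)) :
    defect B T p p' + defect B T (p + p') p'' = defect B T p' p'' + defect B T p (p' + p'') := by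
  refine hom_ext_local fun T' g q => ?_
  obtain ⟨R, hR, hx⟩ := B.locallySurjective T' (P.obj.map g.op p) q
  obtain ⟨R', hR', hz⟩ := B.locallySurjective T' (P.obj.map g.op p') q
  obtain ⟨R'', hR'', hw⟩ := B.locallySurjective T' (P.obj.map g.op p'') q
  refine ⟨R ⊓ (R' ⊓ R''), J.intersection_covering hR (J.intersection_covering hR' hR''),
    fun T'' k hk => ?_⟩
  obtain ⟨x, hp, hq⟩ := hx k hk.1
  obtain ⟨z, hp', hq'⟩ := hz k hk.2.1
  obtain ⟨v, hp'', hq''⟩ := hw k hk.2.2
  rw [map_map] at hp hp' hp''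
  have e1 := defect_spec' B (k ≫ g) x z (hq.trans hq'.symm) hp hp' hq
  have e2 := defect_spec' B (p := p + p') (k ≫ g) (B.add₁ T'' x z (hq.trans hq'.symm)) v
    (by rw [B.πQ_add₁, hq, hq'']) (by rw [B.πP_add₁, hp, hp', map_add]) hp'' ((B.πQ_add₁ _ _ _ _).trans hq)
  have e3 := defect_spec' B (k ≫ g) z v (hq'.trans hq''.symm) hp' hp'' hq'
  have e4 := defect_spec' B (p' := p' + p'') (k ≫ g) x (B.add₁ T'' z v (hq'.trans hq''.symm))
    (by rw [B.πQ_add₁, hq, hq']) hp (by rw [B.πP_add₁, hp', hp'', map_add]) hq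
  rw [homApp_add, homApp_add, e1, e2, e3, e4, B.add₁_assoc T'' x z v (hq.trans hq'.symm) (hq'.trans hq''.symm)]
  abel

theorem defect_map {T T₁ : C} (f : T₁ ⟶ T) (p p' : P.obj.obj (op T)) :
    (HomSh.homSh J Q (linSh B)).obj.map f.op (defect B T p p') =
      defect B T₁ (P.obj.map f.op p) (P.obj.map f.op p') := by
  refine hom_ext_local fun T' g q => ?_
  obtain ⟨R, hR, hx⟩ := B.locallySurjective T' (P.obj.map g.op (P.obj.map f.op p)) q
  obtain ⟨R', hR', hz⟩ := B.locallySurjective T' (P.obj.map g.op (P.obj.map f.op p')) q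
  refine ⟨R ⊓ R', J.intersection_covering hR hR', fun T'' k hk => ?_⟩
  obtain ⟨x, hp, hq⟩ := hx k hk.1
  obtain ⟨z, hp', hq'⟩ := hz k hk.2
  rw [homApp_map, ← hq, defect_spec B _ x z (hq.trans hq'.symm) (by rw [hp, map_map, map_map, Category.assoc])
    (by rw [hp', map_map, map_map, Category.assoc]),
    defect_spec B _ x z (hq.trans hq'.symm) (by rw [hp, map_map]) (by rw [hp', map_map])]

/-- Composition with the projection to the quotient. -/
abbrev pushπ (T : C) : (HomSh.homSh J Q (linSh B)).obj.obj (op T) →+ (HomSh.homSh J Q (quotSh B)).obj.obj (op T) :=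
  ((HomSh.homShMap J (𝟙 Q) (quotπ B)).hom.app (op T)).hom

theorem pushπ_map {T T₁ : C} (f : T₁ ⟶ T) (a : (HomSh.homSh J Q (linSh B)).obj.obj (op T)) :
    pushπ B T₁ ((HomSh.homSh J Q (linSh B)).obj.map f.op a) =
      (HomSh.homSh J Q (quotSh B)).obj.map f.op (pushπ B T a) :=
  NatTrans.naturality_apply (HomSh.homShMap J (𝟙 Q) (quotπ B)).hom f.op a

theorem psi_add (T : C) (p p' : P.obj.obj (op T)) :
    psi B T (p + p') = psi B T p + psi B T p' + pushπ B T (defect B T p p') := by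
  refine hom_ext_local fun T' g q => ?_
  obtain ⟨R, hR, hx⟩ := B.locallySurjective T' (P.obj.map g.op p) q
  obtain ⟨R', hR', hz⟩ := B.locallySurjective T' (P.obj.map g.op p') q
  refine ⟨R ⊓ R', J.intersection_covering hR hR', fun T'' k hk => ?_⟩
  obtain ⟨x, hp, hq⟩ := hx k hk.1
  obtain ⟨z, hp', hq'⟩ := hz k hk.2
  rw [map_map] at hp hp'
  have e := psi_spec' B (p := p + p') (k ≫ g) (B.add₁ T'' x z (hq.trans hq'.symm))
    (by rw [B.πP_add₁, hp, hp', map_add]) ((B.πQ_add₁ _ _ _ _).trans hq)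
  have e1 := psi_spec' B (k ≫ g) x hp hq
  have e2 := psi_spec' B (k ≫ g) z hp' hq'
  have e3 := defect_spec' B (k ≫ g) x z (hq.trans hq'.symm) hp hp' hq
  rw [homApp_add, homApp_add, e, e1, e2]
  erw [homApp_homShMap]
  rw [e3, map_sub, map_sub]
  abel

theorem psi_zero (T : C) : psi B T 0 = -pushπ B T (defect B T 0 0) := by
  have h := psi_add B T 0 0
  rw [add_zero, add_assoc, left_eq_add] at h
  exact eq_neg_of_add_eq_zero_left h

theorem defect_zero_left (T : C) (p : P.obj.obj (op T)) : defect B T 0 p = defect B T 0 0 := by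
  have h := defect_cocycle B T 0 0 p
  rw [add_zero, zero_add] at h
  exact (add_right_cancel h).symm

/-- A section of `P` with a lift of its homomorphism to the linearisation. -/
@[ext]
structure LiftSec (T : C) : Type (u + 1) where
  /-- the section of `P` -/
  p : P.obj.obj (op T)
  /-- the lift -/
  χ : (HomSh.homSh J Q (linSh B)).obj.obj (op T)
  eq : pushπ B T χ = psi B T p

instance instAddLiftSec (T : C) : Add (LiftSec B T) where
  add a b := ⟨a.p + b.p, a.χ + b.χ + defect B T a.p b.p, by rw [map_add, map_add, a.eq, b.eq, ← psi_add]⟩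

instance instZeroLiftSec (T : C) : Zero (LiftSec B T) where
  zero := ⟨0, -defect B T 0 0, by rw [map_neg, ← psi_zero]⟩

instance instNegLiftSec (T : C) : Neg (LiftSec B T) where
  neg a := ⟨-a.p, -a.χ - defect B T (-a.p) a.p - defect B T 0 0, by
    have h := psi_add B T (-a.p) a.p
    rw [neg_add_cancel, psi_zero] at h
    rw [map_sub, map_sub, map_neg, a.eq, sub_eq_add_neg _ (pushπ B T (defect B T 0 0)), h]
    abel⟩

theorem LiftSec.add_p {T : C} (a b : LiftSec B T) : (a + b).p = a.p + b.p := rfl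
theorem LiftSec.add_χ {T : C} (a b : LiftSec B T) : (a + b).χ = a.χ + b.χ + defect B T a.p b.p := rfl
theorem LiftSec.zero_p (T : C) : (0 : LiftSec B T).p = 0 := rfl
theorem LiftSec.zero_χ (T : C) : (0 : LiftSec B T).χ = -defect B T 0 0 := rfl
theorem LiftSec.neg_p {T : C} (a : LiftSec B T) : (-a).p = -a.p := rfl
theorem LiftSec.neg_χ {T : C} (a : LiftSec B T) :
    (-a).χ = -a.χ - defect B T (-a.p) a.p - defect B T 0 0 := rfl

instance instAddCommGroupLiftSec (T : C) : AddCommGroup (LiftSec B T) where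
  add_assoc a b c := by
    refine LiftSec.ext (add_assoc _ _ _) ?_
    simp only [LiftSec.add_χ, LiftSec.add_p]
    have h := defect_cocycle B T a.p b.p c.p
    calc a.χ + b.χ + defect B T a.p b.p + c.χ + defect B T (a.p + b.p) c.p
        = a.χ + b.χ + c.χ + (defect B T a.p b.p + defect B T (a.p + b.p) c.p) := by abel
      _ = a.χ + (b.χ + c.χ + defect B T b.p c.p) + defect B T a.p (b.p + c.p) := by rw [h]; abel
  zero_add a := by
    refine LiftSec.ext (zero_add _) ?_
    rw [LiftSec.add_χ, LiftSec.zero_χ, LiftSec.zero_p, defect_zero_left B T a.p]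
    abel
  add_zero a := by
    refine LiftSec.ext (add_zero _) ?_
    rw [LiftSec.add_χ, LiftSec.zero_χ, LiftSec.zero_p, defect_comm B T a.p 0, defect_zero_left B T a.p]
    abel
  nsmul := nsmulRec
  zsmul := zsmulRec
  neg_add_cancel a := by
    refine LiftSec.ext (neg_add_cancel _) ?_
    rw [LiftSec.add_χ, LiftSec.neg_χ, LiftSec.neg_p, LiftSec.zero_χ]
    abel
  add_comm a b := by
    refine LiftSec.ext (add_comm _ _) ?_
    rw [LiftSec.add_χ, LiftSec.add_χ, defect_comm, add_comm a.χ]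

/-- Restriction of lifts. -/
def liftMap {T T₁ : C} (f : T₁ ⟶ T) : LiftSec B T →+ LiftSec B T₁ :=
  AddMonoidHom.mk' (fun a => ⟨P.obj.map f.op a.p, (HomSh.homSh J Q (linSh B)).obj.map f.op a.χ,
      by rw [pushπ_map, a.eq, psi_map]⟩) fun a b => by
    refine LiftSec.ext ?_ ?_
    · change P.obj.map f.op (a + b).p = _ + _
      rw [LiftSec.add_p, map_add]
    · change (HomSh.homSh J Q (linSh B)).obj.map f.op (a + b).χ = _ + _ + _
      rw [LiftSec.add_χ, map_add, map_add, defect_map]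

/-- The presheaf of lifts. -/
def liftPre : Cᵒᵖ ⥤ AddCommGrpCat.{u + 1} where
  obj T := AddCommGrpCat.of (LiftSec B T.unop)
  map f := AddCommGrpCat.ofHom (liftMap B f.unop)
  map_id T := AddCommGrpCat.ext fun a => by
    refine LiftSec.ext ?_ ?_
    · change P.obj.map (𝟙 T) a.p = a.p
      rw [P.obj.map_id]; rfl
    · change (HomSh.homSh J Q (linSh B)).obj.map (𝟙 T) a.χ = a.χ
      rw [CategoryTheory.Functor.map_id]; rfl
  map_comp {T T' T''} f g := AddCommGrpCat.ext fun a => by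
    refine LiftSec.ext ?_ ?_
    · change P.obj.map (f ≫ g) a.p = P.obj.map g (P.obj.map f a.p)
      rw [P.obj.map_comp]; rfl
    · change (HomSh.homSh J Q (linSh B)).obj.map (f ≫ g) a.χ =
        (HomSh.homSh J Q (linSh B)).obj.map g ((HomSh.homSh J Q (linSh B)).obj.map f a.χ)
      rw [CategoryTheory.Functor.map_comp]; rfl

omit [HasSheafify J AddCommGrpCat.{u + 1}] in
theorem exists_glue_sect (A : Sheaf J AddCommGrpCat.{u + 1}) {T : C} {R : Sieve T} (hR : R ∈ J T)
    (a : ∀ ⦃T' : C⦄ (g : T' ⟶ T), R g → A.obj.obj (op T'))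
    (hc : ∀ ⦃Y₁ Y₂ Z : C⦄ (g₁ : Z ⟶ Y₁) (g₂ : Z ⟶ Y₂) (f₁ : Y₁ ⟶ T) (f₂ : Y₂ ⟶ T) (h₁ : R f₁) (h₂ : R f₂),
      g₁ ≫ f₁ = g₂ ≫ f₂ → A.obj.map g₁.op (a f₁ h₁) = A.obj.map g₂.op (a f₂ h₂)) :
    ∃ b : A.obj.obj (op T), ∀ ⦃T' : C⦄ (g : T' ⟶ T) (hg : R g), A.obj.map g.op b = a g hg := by
  obtain ⟨b, hb, -⟩ := (isSheaf_iff_isSheaf_of_type _ _).1 (Biext.uSh J A).property _ hR
    (fun T' g hg => a g hg) (fun Y₁ Y₂ Z g₁ g₂ f₁ f₂ h₁ h₂ h => hc g₁ g₂ f₁ f₂ h₁ h₂ h)
  exact ⟨b, hb⟩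

theorem isSheaf_liftPre : Presheaf.IsSheaf J (liftPre B) := by
  apply Presheaf.isSheaf_of_isSheaf_comp J (liftPre B) (forget AddCommGrpCat.{u + 1})
  rw [isSheaf_iff_isSheaf_of_type]
  intro T R hR fam hfam
  let a : ∀ ⦃T' : C⦄ (g : T' ⟶ T), R g → LiftSec B T' := fun T' g hg => fam g hg
  obtain ⟨p, hp⟩ := exists_glue_sect P hR (fun T' g hg => (a g hg).p) fun Y₁ Y₂ Z g₁ g₂ f₁ f₂ h₁ h₂ h =>
    congrArg LiftSec.p (hfam g₁ g₂ h₁ h₂ h)
  obtain ⟨χ, hχ⟩ := exists_glue_sect (HomSh.homSh J Q (linSh B)) hR (fun T' g hg => (a g hg).χ)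
    fun Y₁ Y₂ Z g₁ g₂ f₁ f₂ h₁ h₂ h => congrArg LiftSec.χ (hfam g₁ g₂ h₁ h₂ h)
  refine ⟨(⟨p, χ, sheaf_ext hR fun T' g hg => by
    rw [← pushπ_map, hχ g hg, psi_map, hp g hg, (a g hg).eq]⟩ : LiftSec B T), fun T' g hg => ?_, ?_⟩
  · exact LiftSec.ext (hp g hg) (hχ g hg)
  · intro (b : LiftSec B T) hb
    exact LiftSec.ext (sheaf_ext hR fun T' g hg => (congrArg LiftSec.p (hb g hg)).trans (hp g hg).symm)
      (sheaf_ext hR fun T' g hg => (congrArg LiftSec.χ (hb g hg)).trans (hχ g hg).symm)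

/-- The sheaf of lifts: an extension of `P` by `𝓗om(Q, G)`. -/
def liftSh : Sheaf J AddCommGrpCat.{u + 1} := ⟨liftPre B, isSheaf_liftPre B⟩

/-- The projection to `P`. -/
def liftPr : liftSh B ⟶ P :=
  ⟨{ app := fun T => AddCommGrpCat.ofHom (AddMonoidHom.mk' (fun a : LiftSec B T.unop => a.p) fun _ _ => rfl)
     naturality := fun _ _ _ => rfl }⟩

/-- The inclusion of `𝓗om(Q, G)`. -/
def liftIncl : HomSh.homSh J Q G ⟶ liftSh B :=
  ⟨{ app := fun T => AddCommGrpCat.ofHom (AddMonoidHom.mk'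
      (fun a : (HomSh.homSh J Q G).obj.obj T =>
        (⟨0, (HomSh.homShMap J (𝟙 Q) (linι B)).hom.app T a - defect B T.unop 0 0, by
          rw [map_sub, psi_zero, sub_eq_add_neg, add_eq_right]
          exact homApp_ext fun T' g q => quotπ_linι B (op T') (homApp a g q)⟩ : LiftSec B T.unop))
      fun a b => by
        refine LiftSec.ext (add_zero _).symm ?_
        change (HomSh.homShMap J (𝟙 Q) (linι B)).hom.app T (a + b) - _ = _ + _ + _
        rw [map_add]
        exact (fun {A : Type (u + 1)} [AddCommGroup A] (x y D : A) => (by abel : x + y - D = x - D + (y - D) + D)) _ _ _)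
     naturality := fun T T' f => AddCommGrpCat.ext fun a => by
      refine LiftSec.ext (map_zero (P.obj.map f).hom).symm ?_
      change (HomSh.homShMap J (𝟙 Q) (linι B)).hom.app T' ((HomSh.homSh J Q G).obj.map f a) - _ =
        (HomSh.homSh J Q (linSh B)).obj.map f.unop.op (_ - _)
      rw [map_sub, defect_map, map_zero, NatTrans.naturality_apply]
      rfl }⟩

/-- `𝓗om(Q, G) → liftSh B → P`. -/
def liftSeq : ShortComplex (Sheaf J AddCommGrpCat.{u + 1}) :=
  ShortComplex.mk (liftIncl B) (liftPr B) (Sheaf.hom_ext (NatTrans.ext (funext fun _ => AddCommGrpCat.ext fun _ => rfl)))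

theorem liftSeq_shortExact
    (hlift : ∀ (T : C) (p : P.obj.obj (op T)), ∃ R ∈ J T, ∀ ⦃T' : C⦄ (h : T' ⟶ T), R h →
      ∃ χ, pushπ B T' χ = (HomSh.homSh J Q (quotSh B)).obj.map h.op (psi B T p)) :
    (liftSeq B).ShortExact := by
  haveI : Mono (HomSh.homShMap J (𝟙 Q) (linι B)) := HomShExact13.mono_homShMap_right Q (linι B)
  have hι := injective_app_of_mono (HomSh.homShMap J (𝟙 Q) (linι B))
  haveI hmono : Mono (liftIncl B) := by
    haveI : ∀ T, Mono ((liftIncl B).hom.app T) := fun T => (AddCommGrpCat.mono_iff_injective _).2 fun a b h =>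
      hι T (sub_left_inj.1 (congrArg LiftSec.χ h))
    haveI : Mono ((sheafToPresheaf J AddCommGrpCat.{u + 1}).map (liftIncl B)) :=
      NatTrans.mono_of_mono_app (liftIncl B).hom
    exact (sheafToPresheaf J AddCommGrpCat.{u + 1}).mono_of_mono_map this
  haveI : Epi (liftPr B) := by
    refine (Sheaf.isLocallySurjective_iff_epi' _ (liftPr B)).1 ⟨fun {T} p => ?_⟩
    obtain ⟨R, hR, hχ⟩ := hlift T p
    refine J.superset_covering ?_ hR
    intro T' h hh
    obtain ⟨χ, hχ⟩ := hχ h hh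
    exact ⟨(⟨P.obj.map h.op p, χ, by rw [hχ, psi_map]⟩ : LiftSec B T'), rfl⟩
  have hepi : Epi (kernel.lift (liftPr B) (liftIncl B) (liftSeq B).zero) := by
    refine (Sheaf.isLocallySurjective_iff_epi' _ _).1 ⟨fun {T} k => ?_⟩
    let a : LiftSec B T := (kernel.ι (liftPr B)).hom.app (op T) k
    have ha : a.p = 0 := hom_app_congr (kernel.condition (liftPr B)) (op T) k
    have hz : pushπ B T (a.χ + defect B T 0 0) = 0 := by
      rw [map_add, a.eq, ha, psi_zero, neg_add_cancel]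
    haveI : Mono ((linSeq B).map (HomSh.homShFunctor J Q)).f := ‹Mono (HomSh.homShMap J (𝟙 Q) (linι B))›
    obtain ⟨r, hr⟩ := exists_of_exact_mono ((linSeq B).map (HomSh.homShFunctor J Q))
      (HomShExact13.exact_homShMap_right Q (linSeq_shortExact B).exact (linSeq_shortExact B).mono_f)
      T (a.χ + defect B T 0 0) hz
    refine J.superset_covering ?_ (J.top_mem T)
    intro T' h _
    refine ⟨(HomSh.homSh J Q G).obj.map h.op r, injective_app_of_mono (kernel.ι (liftPr B)) (op T') ?_⟩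
    change (kernel.lift (liftPr B) (liftIncl B) (liftSeq B).zero ≫ kernel.ι (liftPr B)).hom.app (op T') _ =
      (kernel.ι (liftPr B)).hom.app (op T') ((kernel (liftPr B)).obj.map h.op k)
    rw [kernel.lift_ι, NatTrans.naturality_apply (kernel.ι (liftPr B)).hom h.op k,
      NatTrans.naturality_apply (liftIncl B).hom h.op r]
    refine congrArg ((liftSh B).obj.map h.op) (LiftSec.ext ha.symm ?_)
    change (HomSh.homShMap J (𝟙 Q) (linι B)).hom.app (op T) r - _ = a.χ
    exact (congrArg (· - defect B T 0 0) hr).trans (add_sub_cancel_right _ _)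
  exact { exact := (liftSeq B).exact_iff_epi_kernel_lift.2 hepi
          mono_f := hmono
          epi_g := ‹Epi (liftPr B)› }

theorem exists_isTrivial_of_section (s : P ⟶ liftSh B) (hs : s ≫ liftPr B = 𝟙 P) : Biext.IsTrivial J B := by
  let S : ∀ T : C, P.obj.obj (op T) → LiftSec B T := fun T p => s.hom.app (op T) p
  have hSp : ∀ T p, (S T p).p = p := fun T p => hom_app_congr hs (op T) p
  have hSmap : ∀ {T T' : C} (f : T' ⟶ T) p, S T' (P.obj.map f.op p) = liftMap B f (S T p) := fun f p =>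
    NatTrans.naturality_apply s.hom f.op p
  let Rel : ∀ (T : C), P.obj.obj (op T) → Q.obj.obj (op T) → B.E.obj.obj (op T) → Prop :=
    fun T p q x => B.πP T x = p ∧ B.πQ T x = q ∧ lam B T x = homApp (S T p).χ (𝟙 T) q
  have hres : ∀ {T T' : C} (f : T' ⟶ T) p q x, Rel T p q x →
      Rel T' (P.obj.map f.op p) (Q.obj.map f.op q) (B.E.obj.map f.op x) := by
    rintro T T' f p q x ⟨hp, hq, hx⟩
    refine ⟨by rw [B.πP_map, hp], by rw [B.πQ_map, hq], ?_⟩
    rw [← lam_map, hx, homApp_naturality, hSmap]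
    change _ = homApp ((HomSh.homSh J Q (linSh B)).obj.map f.op (S T p).χ) _ _
    rw [homApp_map, Category.id_comp, Category.comp_id]
  have huniq : ∀ T p q x y, Rel T p q x → Rel T p q y → x = y := by
    rintro T p q x y ⟨hp, hq, hx⟩ ⟨hp', hq', hy⟩
    obtain ⟨c, rfl, -⟩ := B.existsUnique_act T x y (hp.trans hp'.symm) (hq.trans hq'.symm)
    rw [lam_act, hx, add_eq_right] at hy
    rw [linι_injective B (op T) (hy.trans (map_zero _).symm), B.zero_act]
  have hex : ∀ T p q, ∃ x, Rel T p q x := by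
    intro T p q
    obtain ⟨R, hR, hx⟩ := B.locallySurjective T p q
    obtain ⟨x, R', hR', hx'⟩ := exists_glue B T
      (fun T' g x => Rel T' (P.obj.map g.op p) (Q.obj.map g.op q) x)
      (fun T' T'' g h x hx => by
        have := hres h _ _ _ hx
        rwa [map_map, map_map] at this)
      (fun T' g x y => huniq _ _ _ x y)
      ⟨R, hR, fun T' g hg => by
        obtain ⟨x, hp, hq⟩ := hx g hg
        let p' := P.obj.map g.op p
        have e : (quotπ B).hom.app (op T') (homApp (S T' p').χ (𝟙 T') (Q.obj.map g.op q) - lam B T' x) = 0 := by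
          rw [map_sub, sub_eq_zero, ← psi_spec B (p := p') (𝟙 T') x (by rw [hp, map_id_apply]), ← hq]
          have := congrArg (fun φ => homApp φ (𝟙 T') (B.πQ T' x)) (S T' p').eq
          rw [hSp] at this
          exact this
        haveI : Mono (linSeq B).f := inferInstanceAs (Mono (linι B))
        obtain ⟨c, hc⟩ := exists_of_exact_mono (linSeq B) (linSeq_shortExact B).exact T' _ e
        refine ⟨B.act T' c x, by rw [B.πP_act, hp], by rw [B.πQ_act, hq], ?_⟩
        rw [lam_act]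
        exact eq_sub_iff_add_eq.1 hc⟩
    refine ⟨x, sheaf_ext hR' fun T' g hg => by rw [← B.πP_map]; exact (hx' g hg).1,
      sheaf_ext hR' fun T' g hg => by rw [← B.πQ_map]; exact (hx' g hg).2.1,
      sheaf_ext hR' fun T' g hg => ?_⟩
    rw [lam_map, (hx' g hg).2.2, homApp_naturality, hSmap]
    change homApp ((HomSh.homSh J Q (linSh B)).obj.map g.op (S T p).χ) _ _ = _
    rw [homApp_map, Category.id_comp, Category.comp_id]
  choose σ hσ using hex
  refine ⟨{ σ := σ, πP_σ := fun T p q => (hσ T p q).1, πQ_σ := fun T p q => (hσ T p q).2.1,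
            σ_map := fun f p q => huniq _ _ _ _ _ (hres f p q _ (hσ _ p q)) (hσ _ _ _),
            σ_add₁ := ?_, σ_add₂ := ?_ }⟩
  · intro T p p' q
    refine huniq _ _ _ _ _ (hσ T (p + p') q) ⟨by rw [B.πP_add₁, (hσ T p q).1, (hσ T p' q).1],
      by rw [B.πQ_add₁, (hσ T p q).2.1], ?_⟩
    have h : S T (p + p') = S T p + S T p' := map_add (s.hom.app (op T)).hom p p'
    have e := defect_spec' B (p := p) (p' := p') (𝟙 T) (σ T p q) (σ T p' q)
      ((hσ T p q).2.1.trans (hσ T p' q).2.1.symm) (by rw [(hσ T p q).1, map_id_apply])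
      (by rw [(hσ T p' q).1, map_id_apply]) (hσ T p q).2.1
    rw [h, LiftSec.add_χ, hSp, hSp, homApp_add, homApp_add, e]
    exact (fun {A : Type (u + 1)} [AddCommGroup A] (L l l' a a' : A) (h₁ : l = a) (h₂ : l' = a') =>
      (by rw [← h₁, ← h₂]; abel : L = a + a' + (L - l - l'))) _ _ _ _ _ (hσ T p q).2.2 (hσ T p' q).2.2
  · intro T p q q'
    refine huniq _ _ _ _ _ (hσ T p (q + q')) ⟨by rw [B.πP_add₂, (hσ T p q).1],
      by rw [B.πQ_add₂, (hσ T p q).2.1, (hσ T p q').2.1], ?_⟩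
    rw [lam_add₂, map_add, (hσ T p q).2.2, (hσ T p q').2.2]

theorem isTrivial_of_exact [HasExt.{w} (Sheaf J AddCommGrpCat.{u + 1})]
    (h₁ : ∀ e : Abelian.Ext P (HomSh.homSh J Q G) 1, e = 0) (R : Sheaf J AddCommGrpCat.{u + 1})
    (d : HomSh.homSh J Q (quotSh B) ⟶ R) (hd : HomSh.homShMap J (𝟙 Q) (quotπ B) ≫ d = 0)
    (hexd : (ShortComplex.mk _ _ hd).Exact) (h₂ : ∀ φ : P ⟶ R, φ = 0) : Biext.IsTrivial J B := by
  let φ : P ⟶ R :=
    ⟨{ app := fun T => AddCommGrpCat.ofHom (AddMonoidHom.mk'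
        (fun p : P.obj.obj (op T.unop) => d.hom.app T (psi B T.unop p)) fun p p' => by
          rw [psi_add, map_add, map_add, add_eq_left]
          exact hom_app_congr hd T _)
       naturality := fun T T' f => AddCommGrpCat.ext fun p => by
        change d.hom.app T' (psi B T'.unop (P.obj.map f.unop.op p)) = _
        rw [← psi_map]
        exact NatTrans.naturality_apply d.hom f (psi B T.unop p) }⟩
  have hlift : ∀ (T : C) (p : P.obj.obj (op T)), ∃ R ∈ J T, ∀ ⦃T' : C⦄ (h : T' ⟶ T), R h →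
      ∃ χ, pushπ B T' χ = (HomSh.homSh J Q (quotSh B)).obj.map h.op (psi B T p) := fun T p =>
    exists_local_of_exact _ hexd T (psi B T p) (hom_app_congr (h₂ φ) (op T) p)
  have hS := liftSeq_shortExact B hlift
  obtain ⟨x₂, hx₂⟩ := Abelian.Ext.covariant_sequence_exact₃ P hS (Abelian.Ext.mk₀ (𝟙 P)) (n₁ := 1) rfl (h₁ _)
  obtain ⟨s, rfl⟩ := (Abelian.Ext.mk₀_bijective P (liftSh B)).2 x₂
  refine exists_isTrivial_of_section B s ((Abelian.Ext.mk₀_bijective P P).1 ?_)
  rw [← Abelian.Ext.mk₀_comp_mk₀]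
  exact hx₂

end GrothLib.BiextRigid15

namespace GrothLib.BiextRigid15

universe v v' u₁ u₁'

theorem exists_exact_rightDerived_one {A : Type u₁} [Category.{v} A] [Abelian A] [HasInjectiveResolutions A]
    {D : Type u₁'} [Category.{v'} D] [Abelian D] (F : A ⥤ D) [F.Additive] [PreservesFiniteLimits F]
    (S : ShortComplex A) (hS : S.ShortExact) :
    ∃ (d : F.obj S.X₃ ⟶ (F.rightDerived 1).obj S.X₁) (w : F.map S.g ≫ d = 0),
      (ShortComplex.mk (F.map S.g) d w).Exact := by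
  obtain ⟨Δ⟩ := RDerLES.nonempty_derivedLES F
  have w : F.map S.g ≫ F.toRightDerivedZero.app S.X₃ ≫ Δ.δ S hS 0 1 rfl = 0 := by
    rw [← Category.assoc, F.toRightDerivedZero.naturality, Category.assoc, Δ.comp_δ, comp_zero]
  let iso : ShortComplex.mk (F.map S.g) (F.toRightDerivedZero.app S.X₃ ≫ Δ.δ S hS 0 1 rfl) w ≅
      ShortComplex.mk _ _ (Δ.comp_δ S hS 0 1 rfl) :=
    ShortComplex.isoMk (asIso (F.toRightDerivedZero.app S.X₂))
      (asIso (F.toRightDerivedZero.app S.X₃)) (Iso.refl _)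
      (F.toRightDerivedZero.naturality S.g).symm (Category.comp_id _).symm
  exact ⟨_, w, (ShortComplex.exact_iff_of_iso iso).2 (Δ.exact₃ S hS 0 1 rfl)⟩

theorem exists_exact_rightDerived_one' {A : Type u₁} [Category.{v} A] [Abelian A] [HasInjectiveResolutions A]
    {D : Type u₁'} [Category.{v'} D] [Abelian D] (F : A ⥤ D) [F.Additive] [PreservesFiniteLimits F]
    {X₁ X₂ X₃ : A} (f : X₁ ⟶ X₂) (g : X₂ ⟶ X₃) (w : f ≫ g = 0) (hS : (ShortComplex.mk f g w).ShortExact) :
    ∃ (d : F.obj X₃ ⟶ (F.rightDerived 1).obj X₁) (w : F.map g ≫ d = 0),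
      (ShortComplex.mk (F.map g) d w).Exact :=
  exists_exact_rightDerived_one F _ hS

variable {C : Type (u + 1)} [Category.{u} C] {J : GrothendieckTopology C} [HasSheafify J AddCommGrpCat.{u + 1}]
  {P Q G : Sheaf J AddCommGrpCat.{u + 1}} (B : Biext J P Q G)
  [HasInjectiveResolutions (Sheaf J AddCommGrpCat.{u + 1})] [HasExt.{w} (Sheaf J AddCommGrpCat.{u + 1})]

/-- A biextension is trivial when `Ext¹(P, 𝓗om(Q, G)) = 0` and `Hom(P, 𝓔xt¹(Q, G)) = 0`. -/
theorem isTrivial_of_vanish (h₁ : ∀ e : Abelian.Ext P (HomSh.homSh J Q G) 1, e = 0)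
    (h₂ : ∀ φ : P ⟶ (HomSh.extSh J Q 1).obj G, φ = 0) : Biext.IsTrivial J B := by
  haveI := HomShExact13.preservesFiniteLimits_homShFunctor Q
  rw [HomSh.extSh_def] at h₂
  obtain ⟨d, w, hexd⟩ := exists_exact_rightDerived_one' (HomSh.homShFunctor J Q) (linι B) (quotπ B)
    (cokernel.condition _) (linSeq_shortExact B)
  revert d
  generalize ((HomSh.homShFunctor J Q).rightDerived 1).obj G = R at h₂
  intro d w hexd
  exact isTrivial_of_exact B h₁ R d w hexd h₂

end GrothLib.BiextRigid15
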